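import Mathlib
import Cfsg.Agent.Base
import Cfsg.Agent.Lib.QT.RkMat
import Cfsg.Agent.Lib.LieBN.Rank
import Cfsg.Agent.Lib.LieBN.Exc
import Cfsg.Agent.S1069
import Cfsg.Agent.S1159
import Cfsg.Agent.S2366

/-! Groups of Lie type with cyclic Sylow subgroups for the defining characteristic. -/

set_option autoImplicit false

namespace H90.QT
open Subgroup Cfsg Cfsg.Lie H62.LB

variable {X : Type*} [Group X] [Finite X] {p : ℕ} [hp : Fact p.Prime]

theorem setup_of_cyc (hX : IsLieTypeChar p X) (h : Cyc p X) (U : Sylow p X) :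
    ∃ A Y, Setup p (U : Subgroup X) A Y True := by
  obtain ⟨S, hU, -, -, h1, h2, -⟩ := exists_sbn_sylow hX U
  have := (simple_preLie hX).2.1
  have hc := h U U.isPGroup'
  have cm : ∀ {a b : X}, a ∈ U → b ∈ U → Commute a b := fun {a b} ha hb =>
    congrArg Subtype.val ((IsCyclic.commGroup (α := U)).mul_comm ⟨a, ha⟩ ⟨b, hb⟩)
  have ex : ∀ P : Subgroup X, IsPGroup p P → P ≠ ⊥ → ∃ z ∈ P, z ≠ 1 ∧ z ^ p = 1 := fun P hP h0 => by
    obtain ⟨n, hn⟩ := IsPGroup.iff_card.1 hP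
    obtain ⟨z, hz⟩ := exists_prime_orderOf_dvd_card' (G := P) p (hn ▸ dvd_pow_self p fun e =>
      h0 (card_eq_one.1 (by rw [hn, e, pow_zero])))
    exact ⟨z, z.2, fun e => hp.out.ne_one (by rw [← hz, ← orderOf_coe, e, orderOf_one]),
      by rw [← hz, ← orderOf_coe, pow_orderOf_eq_one]⟩
  obtain ⟨z, hz, z1, zp⟩ := ex U U.isPGroup' fun e => by
    rw [hU, e, coe_bot, normalClosure_eq_bot_iff.2 le_rfl] at h1
    exact bot_ne_top h1
  have inv : ∀ Z, (U : Subgroup X) ≤ Z → ∀ σ ∈ (U : Subgroup X).map MulAut.conj, ∀ z ∈ Z,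
      σ z ∈ Z := by
    rintro Z hZ _ ⟨u, hu, rfl⟩ z hz
    exact mul_mem (mul_mem (hZ hu) hz) (inv_mem (hZ hu))
  have le : (U : Subgroup X) ≤ normalizer (zpowers z : Set X) := fun u hu =>
    mem_normalizer_fintype (by
      rintro _ ⟨k, rfl⟩
      exact ⟨k, by simp only; rw [((cm hu hz).zpow_right k).eq, mul_inv_cancel_right]⟩)
  refine ⟨(U : Subgroup X).map MulAut.conj, normalizer (zpowers z : Set X), U.isPGroup'.map _,
    fun u hu => ⟨u, hu, rfl⟩, inv _ le_rfl, fun e => z1 ?_, le, inv _ le, fun Z hZ hUZ _ g hg => ?_,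
    fun _ => inv⟩
  · have := normalizer_eq_top_iff.1 e
    exact mem_bot.1 (h2 ▸ normal_le_normalCore.2
      ((zpowers_le.2 hz).trans (hU.ge.trans S.split.le)) (mem_zpowers z))
  · have h3 := chev_pCore_ne_bot (.inl hX)
      (fun e => U.not_dvd_index (e.trans (index_dvd_of_le hUZ))) hZ
    have h4 : (pCore p Z).map Z.subtype ≤ U := map_le_iff_le_comap.2
      (H1.pCore_le_sylow (U.subtype hUZ))
    obtain ⟨w, hw, w1, wp⟩ := ex _ (H1.isPGroup_pCore.map Z.subtype) fun e =>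
      h3 ((map_eq_bot_iff_of_injective _ Z.subtype_injective).1 e)
    obtain ⟨x, hx, rfl⟩ := zpowers_le.2 hw (h.mem_zpowers wp zp (cm (h4 hw) hz) w1)
    refine mem_normalizer_fintype ?_
    rintro _ ⟨k, rfl⟩
    simp only [← conj_zpow]
    exact zpow_mem (h.mem_zpowers (b := g * Z.subtype x * g⁻¹) zp
      (by rw [conj_pow, zp, mul_one, mul_inv_cancel])
      (cm hz (h4 ⟨_, Normal.conj_mem inferInstance x hx ⟨g, hg⟩, rfl⟩)) z1) k

theorem not_cyc_G2 {F : Type} [Field F] [Fintype F] [CharP F p] (hF : 3 ≤ Fintype.card F) :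
    ¬ Cyc p (chevG2.group F) := fun h => by
  have hX : IsLieTypeChar p (chevG2.group F) := .inr <| .inr <| .inr <| .inr <| .inr <| .inr <|
    .inl ⟨F, inferInstance, inferInstance, inferInstance, .inl ⟨hF, ⟨.refl _⟩⟩⟩
  have := (simple_preLie hX).1
  obtain ⟨A, Y, h1⟩ := setup_of_cyc hX h default
  exact setup_G2 (.refl _) h1

theorem not_cyc_U3 {F : Type*} [Field F] [Fintype F] [CharP F p] (h2 : p ≠ 2) {q : ℕ}
    (hF : Fintype.card F = q ^ 2) : ¬ Cyc p (PSU 3 F q) := fun h => by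
  have hq : p ∣ q := hp.out.dvd_of_dvd_pow
    (hF ▸ (prime_dvd_char_iff_dvd_card p).1 (ringChar.eq F p).symm.dvd)
  have q1 : 1 ≤ q := Nat.pos_of_ne_zero fun e => Fintype.card_ne_zero (hF.trans (by simp [e]))
  have c1 : ¬ p ∣ q + 1 := fun e => hp.out.not_dvd_one ((Nat.dvd_add_right hq).1 e)
  have c2 : p.Coprime (q + 1) := hp.out.coprime_iff_not_dvd.2 c1
  have h1 := Cfsg.Agent.S0280.result hF 3 (by norm_num)
  obtain ⟨x, hx⟩ := h.exists_orderOf (k := 2)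
    (((c2.coprime_dvd_right (Nat.gcd_dvd_right 3 _)).mul_right c2).pow_left 2 |>.dvd_of_dvd_mul_left
      (by rw [mul_assoc, h1]; exact ((pow_dvd_pow_of_dvd hq 2).trans (pow_dvd_pow q (by norm_num))).mul_right _))
  have h3 := (Cfsg.Agent.S2366.result p h2 q hF).le ⟨x, hx⟩
  have g1 := Nat.gcd_dvd_right 3 (q + 1)
  have pp : p ∣ p ^ 2 := dvd_pow_self p two_ne_zero
  rcases h3 with ((h3 | h3) | h3) | h3
  · exact c1 (pp.trans h3)
  · have := (dvd_trans h3 (Nat.div_dvd_of_dvd (g1.mul_left p)))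
    rw [sq, Nat.mul_dvd_mul_iff_left hp.out.pos] at this
    exact c1 this
  · have h4 : q ^ 2 - 1 = (q + 1) * (q - 1) := by rw [← Nat.sq_sub_sq, one_pow]
    have := pp.trans (dvd_trans h3 (Nat.div_dvd_of_dvd (h4 ▸ g1.mul_right _)))
    exact hp.out.not_dvd_one ((Nat.dvd_sub_iff_right (Nat.one_le_pow _ _ q1)
      (hq.trans (dvd_pow_self q two_ne_zero))).1 this)
  · obtain ⟨t, rfl⟩ : ∃ t, q = t + 1 := ⟨q - 1, by omega⟩
    have h4 : (t + 1) ^ 2 - (t + 1) + 1 = (t + 1) * t + 1 := by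
      rw [sq, Nat.mul_succ, Nat.add_sub_cancel]
    have h5 : Nat.gcd 3 (t + 1 + 1) ∣ (t + 1) * t + 1 := (Nat.dvd_add_right
      ((Nat.gcd_dvd_left 3 _).mul_right (t + 1))).1 (by
        rw [show 3 * (t + 1) + ((t + 1) * t + 1) = (t + 1 + 1) * (t + 1 + 1) by ring]
        exact g1.mul_right _)
    rw [h4] at h3
    exact hp.out.not_dvd_one ((Nat.dvd_add_right (hq.mul_right t)).1
      (pp.trans (dvd_trans h3 (Nat.div_dvd_of_dvd h5))))

theorem not_cyc_Ree (hX : IsoRee X) : ¬ Cyc 3 X := fun h => by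
  have := Fact.mk Nat.prime_three
  obtain ⟨K, _, _, m, hm, hK, ⟨e⟩⟩ := hX
  have := Finite.of_equiv _ e.toEquiv
  obtain ⟨x, hx⟩ := (h.congr e).exists_orderOf (k := 3) (by
    rw [Cfsg.Agent.S1069.result hK, mul_assoc]
    exact (pow_dvd_pow_of_dvd (dvd_pow_self 3 (by omega)) 3).mul_right _)
  have h1 := (Cfsg.Agent.S1159.result hm hK _).1 ⟨x, hx⟩
  have h2 : 3 ^ (m + 1) ≤ 3 ^ (2 * m + 1) := Nat.pow_le_pow_right (by norm_num) (by omega)
  have h3 : 3 ∣ 3 ^ (m + 1) := dvd_pow_self 3 (by omega)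
  have h4 : 3 ∣ 3 ^ (2 * m + 1) := dvd_pow_self 3 (by omega)
  have h5 : Odd (3 ^ (2 * m + 1)) := Odd.pow (by decide)
  have h6 : 0 < 3 ^ (m + 1) := by positivity
  obtain ⟨c, hc⟩ := h5
  omega

theorem lie_odd (h2 : p ≠ 2) (hX : IsLieTypeChar p X) (h : Cyc p X) :
    (∃ (F : Type) (_ : Field F) (_ : Fintype F), CharP F 2 ∧
      Nonempty (X ≃* Matrix.ProjectiveSpecialLinearGroup (Fin 2) F)) ∨
    ∃ (F : Type) (_ : Field F) (_ : Fintype F), (Fintype.card F).Prime ∧ Fintype.card F ≠ 2 ∧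
      Nonempty (X ≃* Matrix.ProjectiveSpecialLinearGroup (Fin 2) F) := by
  obtain ⟨A, Y, h1⟩ := setup_of_cyc hX h default
  rcases (setup_lie hX h1).resolve_right fun e => h2 e.1 with ⟨F, _, _, _, -, ⟨e⟩⟩ |
    ⟨F, _, _, _, q, hF, -, ⟨e⟩⟩ | h3 | ⟨rfl, h3 | ⟨F, _, _, hF, e⟩⟩
  · have := card_eq_of_cyc (h.congr e)
    exact .inr ⟨F, inferInstance, inferInstance, this ▸ hp.out, this ▸ h2, ⟨e⟩⟩
  · exact (not_cyc_U3 h2 hF (h.congr e)).elim
  · exact (h2 h3.1).elim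
  · exact (not_cyc_Ree h3 h).elim
  · exact .inl ⟨F, inferInstance, inferInstance, charP_of_card_eq_prime_pow (p := 2) (f := 3) hF, e⟩

end H90.QT
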