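import Mathlib
import Cfsg.Agent.Base
import Cfsg.Agent.Lib.QT.RkOdd
import Cfsg.Agent.Lib.QT.RkTwo
import Cfsg.Agent.Lib.QT.RkPres
import Cfsg.Agent.Lib.Golay.Mathieu
import Cfsg.Agent.Lib.Leech.Co0
import Cfsg.Agent.Lib.Ru.Ord
import Cfsg.Agent.S0102
import Cfsg.Agent.S1624
import Cfsg.Agent.S1682
import Cfsg.Agent.S1708
import Cfsg.Agent.S1710
import Cfsg.Agent.S1711
import Cfsg.Agent.S2041

/-! The only sporadic group whose Sylow subgroups of odd order are all cyclic is `J₁`. -/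

set_option autoImplicit false

namespace H90.QT
open Subgroup Cfsg Cfsg.Spor H15

variable {X Y : Type*} [Group X] [Group Y]

theorem S33.of_inj (h : S33 X) (f : X →* Y) (hf : Function.Injective f) : S33 Y :=
  h.map f (((MonoidHom.ker_eq_bot_iff f).2 hf).le.trans bot_le)

theorem comm_code {a b : ℕ} (ha : okP a = true) (hb : okP b = true) (h : mulP a b = mulP b a) :
    Commute (permOf a) (permOf b) :=
  (permOf_mul_eq ha hb h).trans (permOf_mulP hb ha)

theorem inv3_code {s a : ℕ} (hs : okP s = true) (ha : okP a = true)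
    (h : mulP s s = idP ∧ powP a 3 = idP ∧ powP (mulP s a) 2 = idP) :
    Inv3 (permOf s) (permOf a) := by
  have h1 := (permOf_mul_eq hs hs h.1).trans permOf_idP
  have h2 := permOf_pow_eq_one (okP_mulP hs ha) h.2.2
  rw [permOf_mulP hs ha, sq, ← mul_assoc] at h2
  exact ⟨h1, permOf_pow_eq_one ha h.2.1, by
    rw [inv_eq_of_mul_eq_one_right h1, eq_inv_iff_mul_eq_one, h2]⟩

theorem s33_M11 : S33 M11 := by
  have g : ∀ c ∈ [796590033492984268806335733761967168, 816061783011650072799398389186036928,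
      809578383745993820496847424931136576, 975288047478159425401548877949089056], Good M11 c := by
    simp only [List.forall_mem_cons, List.not_mem_nil, IsEmpty.forall_iff, implies_true, and_true]
    refine ⟨?_, ?_, ?_, ?_⟩ <;> exact good_M11 (by decide +kernel) (by decide +kernel) (by decide +kernel)
  simp only [List.forall_mem_cons, List.not_mem_nil, IsEmpty.forall_iff, implies_true, and_true] at g
  obtain ⟨s, a, t, b⟩ := g
  have hf := M11.subtype_injective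
  exact ⟨⟨_, s.2⟩, ⟨_, a.2⟩, ⟨_, t.2⟩, ⟨_, b.2⟩, .of_map hf (inv3_code s.1 a.1 (by decide +kernel)),
    .of_map hf (inv3_code t.1 b.1 (by decide +kernel)),
    fun e => permOf_ne_one (i := 1) a.1 (by norm_num) (by decide +kernel) (congrArg Subtype.val e),
    fun e => permOf_ne_one (i := 1) b.1 (by norm_num) (by decide +kernel) (congrArg Subtype.val e),
    Subtype.ext (comm_code a.1 b.1 (by decide +kernel)),
    Subtype.ext (comm_code s.1 b.1 (by decide +kernel))⟩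

theorem s33_M12 : S33 M12 := s33_M11.of_inj _ (inclusion_injective inf_le_left)

theorem s33_M24 : S33 M24 := s33_M12.of_inj _ (inclusion_injective inf_le_left)

theorem not_cyc_M22 : ¬ Cyc 3 M22 := fun h => by
  have := Fact.mk Nat.prime_three
  have a : Good M22 978313968888557037353664979296918848 :=
    good_M22 (by decide +kernel) (by decide +kernel) (by decide +kernel)
  have b : Good M22 967641146943648945340526254965754176 :=
    good_M22 (by decide +kernel) (by decide +kernel) (by decide +kernel)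
  have h1 := h.mem_zpowers (a := ⟨_, b.2⟩) (b := ⟨_, a.2⟩)
    (Subtype.ext (permOf_pow_eq_one b.1 (by decide +kernel)))
    (Subtype.ext (permOf_pow_eq_one a.1 (by decide +kernel)))
    (Subtype.ext (comm_code b.1 a.1 (by decide +kernel)))
    fun e => permOf_ne_one (i := 1) b.1 (by norm_num) (by decide +kernel) (congrArg Subtype.val e)
  have h2 : _ = pt 2 := zpowers_le.2 (show _ ∈ (St (pt 2)).subgroupOf M22 from
    (good_St_pt (i := 2) b.1 (by norm_num) (by decide +kernel)).2) h1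
  exact absurd ((permOf_pt a.1 (by norm_num)).symm.trans h2) (by decide +kernel)

/-- `M₂₂` inside the Conway groups. -/
theorem not_cyc_leech {H : Subgroup (Equiv.Perm leechLattice)}
    (h : Co0 ⊓ (MulAction.stabilizer _ leechU ⊓ MulAction.stabilizer _ leechV ⊓
      MulAction.stabilizer _ leechU') ≤ H) : ¬ Cyc 3 H := fun hc => by
  refine not_cyc_M22 (hc.of_inj (((Co0.subtype.comp H16.permHom).comp
    (inclusion (inf_le_left.trans inf_le_left : M22 ≤ M24))).codRestrict H fun σ => h ⟨Subtype.prop _, ?_⟩)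
    ((MonoidHom.injective_codRestrict _ _ _).2 ((Co0.subtype_injective.comp H16.permHom_injective).comp
      (inclusion_injective _))))
  have h1 : ∀ i, (σ : Equiv.Perm GolayPt)⁻¹ i = none ↔ i = none := fun i => by
    rw [Equiv.Perm.inv_eq_iff_eq, show (σ : Equiv.Perm GolayPt) none = none from σ.2.1.2]
  have h2 : ∀ i, (σ : Equiv.Perm GolayPt)⁻¹ i = some 0 ↔ i = some 0 := fun i => by
    rw [Equiv.Perm.inv_eq_iff_eq, show (σ : Equiv.Perm GolayPt) (some 0) = some 0 from σ.2.2]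
  refine ⟨⟨?_, ?_⟩, ?_⟩ <;> refine Subtype.ext (funext fun i => (H16.permHom_smul_apply' _ _ i).trans ?_)
  · simp only [leechU, vecU, coe_inclusion, h1, h2]
  · simp only [leechV, vecV, coe_inclusion, h1]
  · simp only [leechU', vecU', coe_inclusion, h1, h2]

theorem not_cyc_HS : ¬ Cyc 3 HS := not_cyc_leech fun _ h => ⟨⟨h.1, h.2.1.2⟩, h.2.2⟩

/-- A cyclic `p`-group acting faithfully on a `p'`-group acts freely on a non-trivial subgroup. -/
theorem Cyc.exists_dvd {p : ℕ} [hp : Fact p.Prime] [Finite X] (h : Cyc p X) {V : Type*}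
    [AddCommGroup V] [Finite V] (ρ : X →* AddMonoid.End V) (hρ : Function.Injective ρ)
    (hV : ∀ v : V, p • v = 0 → v = 0) {k : ℕ} (hk : p ^ (k + 1) ∣ Nat.card X) :
    ∃ W : AddSubgroup V, W ≠ ⊥ ∧ p ^ (k + 1) ∣ Nat.card W - 1 := by
  obtain ⟨g, hg⟩ := h.exists_orderOf hk
  have z1 : g ^ p ^ k ≠ 1 := pow_ne_one_of_lt_orderOf (pow_pos hp.out.pos k).ne'
    (hg ▸ Nat.pow_lt_pow_right hp.out.one_lt k.lt_succ_self)
  have zp : (g ^ p ^ k) ^ p = 1 := by rw [← pow_mul, ← pow_succ, ← hg, pow_orderOf_eq_one]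
  have cz : ∀ x ∈ zpowers g, Commute x (g ^ p ^ k) := by
    rintro _ ⟨j, rfl⟩
    exact ((Commute.refl g).pow_right _).zpow_left j
  generalize g ^ p ^ k = z at z1 zp cz
  let _ := DistribMulAction.compHom V ρ
  let W := (DistribSMul.toAddMonoidHom V z - AddMonoidHom.id V).range
  have mW : ∀ {w}, w ∈ W ↔ ∃ v : V, z • v - v = w := Iff.rfl
  refine ⟨W, fun e => z1 (hρ ?_), ?_⟩
  · ext v
    exact (sub_eq_zero.1 (AddSubgroup.mem_bot.1 (e ▸ mW.2 ⟨v, rfl⟩))).trans (by simp)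
  let S : SubMulAction (zpowers g) V := ⟨{w | w ∈ W ∧ w ≠ 0}, fun x w hw => ⟨by
    obtain ⟨v, rfl⟩ := mW.1 hw.1
    exact mW.2 ⟨(x : X) • v, by rw [← mul_smul, ← (cz x x.2).eq, mul_smul, ← smul_sub]; rfl⟩,
    (smul_ne_zero_iff_ne (x : X)).2 hw.2⟩⟩
  have fr : ∀ w : S, MulAction.stabilizer (zpowers g) w = ⊥ := fun w => by
    by_contra hw
    have hP : IsPGroup p (zpowers g) := .of_card ((Nat.card_zpowers g).trans hg)
    obtain ⟨n, hn⟩ := IsPGroup.iff_card.1 (hP.to_subgroup (MulAction.stabilizer (zpowers g) w))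
    obtain ⟨y, hy⟩ := exists_prime_orderOf_dvd_card' (G := MulAction.stabilizer (zpowers g) w) p
      (hn ▸ dvd_pow_self p fun e => hw (card_eq_one.1 (by rw [hn, e, pow_zero])))
    rw [← orderOf_coe, ← orderOf_coe] at hy
    have h1 : z • (w : V) = w := zpowers_le.2 (show _ ∈ MulAction.stabilizer X (w : V) from
      congrArg Subtype.val y.2) (h.mem_zpowers (hy ▸ pow_orderOf_eq_one _) zp (cz _ y.1.2)
        fun e => hp.out.ne_one (by rw [← hy, e, orderOf_one]))
    obtain ⟨v, hv⟩ := mW.1 w.2.1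
    have h2 : ∀ j : ℕ, z ^ j • v = v + j • (w : V) := fun j => by
      induction j with
      | zero => simp
      | succ j ih => rw [pow_succ', mul_smul, ih, smul_add, smul_comm z j, h1, succ_nsmul',
          ← add_assoc, ← hv, add_sub_cancel]
    exact w.2.2 (hV _ (by simpa [zp] using h2 p))
  have h3 := Nat.card_congr (MulAction.selfEquivOrbitsQuotientProd fr)
  rw [Nat.card_prod, Nat.card_zpowers, hg] at h3
  have h4 : Nat.card S = Nat.card W - 1 := by
    rw [← SetLike.coe_sort_coe W, Nat.card_coe_set_eq, ← Set.ncard_sdiff_singleton_of_mem W.zero_mem]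
    rfl
  exact h4 ▸ h3 ▸ dvd_mul_left _ _

theorem card_of_dec {V : Type*} [AddCommGroup V] {f : ℕ → V} {n : ℕ}
    (h : ∀ v, ∃ c < 2 ^ n, v = f c) (h2 : ∀ v : V, v + v = 0) :
    Finite V ∧ ∀ W : AddSubgroup V, W ≠ ⊥ → ∃ k ≤ n, k ≠ 0 ∧ Nat.card W = 2 ^ k := by
  have hs : Function.Surjective fun c : Fin (2 ^ n) => f c := fun v =>
    (h v).elim fun c hc => ⟨⟨c, hc.1⟩, hc.2.symm⟩
  have := Finite.of_surjective _ hs
  have := Fact.mk Nat.prime_two
  refine ⟨inferInstance, fun W h0 => ?_⟩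
  obtain ⟨k, hk⟩ := IsPGroup.iff_card.1 (show IsPGroup 2 (Multiplicative W) from fun v =>
    ⟨1, Multiplicative.toAdd.injective (Subtype.ext (by simpa [two_nsmul] using h2 _))⟩)
  replace hk : Nat.card W = 2 ^ k := hk
  exact ⟨k, (Nat.pow_le_pow_iff_right one_lt_two).1 (hk ▸ (Nat.card_le_card_of_injective _
    W.subtype_injective).trans ((Nat.card_le_card_of_surjective _ hs).trans (by simp))),
    fun e => h0 (AddSubgroup.card_eq_one.1 (by rw [hk, e, pow_zero])), hk⟩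

theorem not_cyc_Ru : ¬ Cyc 5 Ru := fun h => by
  have := Fact.mk Nat.prime_five
  obtain ⟨_, hV⟩ := card_of_dec (f := Mdl.dec RuM.bb 28) (n := 28) (fun v => by
    obtain ⟨x, rfl⟩ := QuotientAddGroup.mk'_surjective _ v
    exact RuM.exists_dec x) RuM.add_self
  have hi : Function.Injective RuM.rb := fun a b e => by
    obtain ⟨a, rfl⟩ := QuotientGroup.mk_surjective a
    obtain ⟨b, rfl⟩ := QuotientGroup.mk_surjective b
    exact QuotientGroup.eq.2 ((MonoidHom.eq_iff RuM.rho).1 e.symm)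
  obtain ⟨W, h0, hW⟩ := (h.congr RuM.equivRu.symm).exists_dvd RuM.rb hi (fun v hv => by
      rwa [show 5 • v = v + v + (v + v) + v by abel, RuM.add_self, zero_add] at hv)
    (k := 2) (by rw [RuM.card_Gb]; norm_num)
  obtain ⟨n, h1, h2, hn⟩ := hV W h0
  exact (by decide : ∀ n ≤ 28, n ≠ 0 → ¬ 5 ^ (2 + 1) ∣ 2 ^ n - 1) n h1 h2 (hn ▸ hW)

theorem spor_cyc [Finite X] [IsSimpleGroup X] (hna : ¬ IsMulCommutative X)
    (h3 : Cyc 3 X) (h5 : Cyc 5 X) (h : IsSporadicGroup X) : IsoJ1 X := by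
  have := Fact.mk Nat.prime_three
  have := Fact.mk Nat.prime_five
  have na : ∀ {Z : Type} [Group Z] (e : X ≃* Z), ¬ IsMulCommutative Z := fun e h =>
    hna ⟨⟨fun a b => e.injective (by rw [map_mul, map_mul]; exact h.1.1 _ _)⟩⟩
  rcases h with ⟨⟨e⟩⟩ | ⟨⟨e⟩⟩ | ⟨⟨e⟩⟩ | ⟨⟨e⟩⟩ | ⟨⟨e⟩⟩ | h | ⟨⟨e⟩⟩ | ⟨F, _, _, ω, hF, hω, ⟨e⟩⟩ | ⟨⟨e⟩⟩ |
    ⟨⟨e⟩⟩ | ⟨⟨e⟩⟩ | ⟨⟨e⟩⟩ | ⟨⟨e⟩⟩ | ⟨⟨e⟩⟩ | ⟨⟨e⟩⟩ | ⟨⟨e⟩⟩ | ⟨⟨e⟩⟩ | ⟨⟨e⟩⟩ | ⟨⟨e⟩⟩ | ⟨⟨e⟩⟩ | ⟨⟨e⟩⟩ |
    ⟨⟨e⟩⟩ | ⟨⟨e⟩⟩ | ⟨⟨e⟩⟩ | h | h
  · exact (s33_M11.not_cyc (h3.congr e)).elim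
  · exact (s33_M12.not_cyc (h3.congr e)).elim
  · exact (not_cyc_M22 (h3.congr e)).elim
  · exact (not_cyc_M22 ((h3.congr e).of_inj _ (inclusion_injective inf_le_left))).elim
  · exact (s33_M24.not_cyc (h3.congr e)).elim
  · exact h
  · obtain ⟨H, -, ⟨F, _, _, hF, ⟨f⟩⟩, -⟩ := Cfsg.Agent.S1624.result
    have := charP_of_card_eq_prime_pow (p := 3) (f := 2) hF
    exact (not_cyc_U3 (by norm_num) (q := 3) hF (((h3.congr e).sub H).congr f)).elim
  · obtain ⟨⟨Γ, _, _, σ, ⟨h1, h2, h4⟩, ⟨f⟩⟩, -⟩ := Cfsg.Agent.S2041.result hF ω hω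
    have := Finite.of_surjective σ h1
    have := e.symm.isSimpleGroup
    have hp : commutator (J3 F ω) = ⊤ := (IsSimpleGroup.eq_bot_or_eq_top_of_normal _ inferInstance).resolve_left fun h =>
      na e ((commutator_eq_bot_iff _).1 h)
    refine (Cfsg.Agent.S0102.result hp (fun P => h3.congr e P P.isPGroup') σ h1 h2 ?_ ?_).elim
    · rw [← comap_top σ, ← hp, commutator_def (J3 F ω), ← MonoidHom.range_eq_top.2 h1,
        ← map_commutator_eq, comap_map_eq, sup_eq_left.2 h4]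
    · rw [Nat.card_congr f.toEquiv]
      simp
  · obtain ⟨f⟩ := Cfsg.Agent.S1711.result
    exact (s33_M24.not_cyc (((h3.congr e).sub _).congr f)).elim
  · exact ((s33_M24.of_inj _ H16.permHom_injective).quot.not_cyc (h3.congr e)).elim
  · exact (not_cyc_leech (H := Co2) (fun _ h => ⟨h.1, h.2.1.1⟩) (h3.congr e)).elim
  · exact (not_cyc_leech (H := Co3) (fun _ h => ⟨h.1, h.2.1.2⟩) (h3.congr e)).elim
  · exact (not_cyc_leech (H := McL) (fun _ h => ⟨⟨h.1, h.2.1.2⟩, h.2.1.1⟩) (h3.congr e)).elim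
  · exact (not_cyc_HS (h3.congr e)).elim
  · exact ((s33_suz (na e)).not_cyc (h3.congr e)).elim
  · obtain ⟨N, K, _, _, -, -, hK, ⟨f⟩⟩ := Cfsg.Agent.S1682.result
    have := charP_of_card_eq_prime_pow (p := 2) (f := 2) hK
    exact ((s33_Sp le_rfl).not_cyc ((((h3.congr e).sub _).sub N).congr f)).elim
  · exact (not_cyc_Ru (h5.congr e)).elim
  · exact ((s33_on (na e)).not_cyc (h3.congr e)).elim
  · obtain ⟨K, _, _, hK, ⟨f⟩⟩ := Cfsg.Agent.S1710.result
    have := charP_of_card_eq_prime (p := 5) hK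
    exact (not_cyc_G2 (by omega) (((h5.congr e).sub _).congr f)).elim
  · exact ((s33_fi22 (na e)).not_cyc (h3.congr e)).elim
  · exact ((s33_fi23 (na e)).not_cyc (h3.congr e)).elim
  · exact ((s33_fi24 fun h => na e inferInstance).not_cyc_commutator (h3.congr e)).elim
  · obtain ⟨K, -, -, -, ⟨f⟩, -⟩ := Cfsg.Agent.S1708.result
    have := Finite.of_equiv _ e.toEquiv
    exact (not_cyc_HS (((((h3.congr e).sub _).sub K).of_surj _
      (QuotientGroup.mk'_surjective _)).congr f)).elim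
  · exact ((s33_th (na e)).not_cyc (h3.congr e)).elim
  · exact (not_baby (h3.rank 1) (f := .id X) Function.surjective_id hna h).elim
  · exact (not_monster (h3.rank 1) (f := .id X) Function.surjective_id hna h).elim

end H90.QT
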