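import Mathlib
import Cfsg.Agent.Base
import Cfsg.Agent.Lib.QT.RkSpor
import Cfsg.Agent.Lib.GL.Simple
import Cfsg.Agent.S0243
import Cfsg.Agent.S0494
import Cfsg.Agent.S0495

/-! The known simple groups whose Sylow subgroups of odd order are all cyclic. -/

set_option autoImplicit false

namespace H90.QT
open Subgroup Cfsg Cfsg.Lie Matrix

variable {X : Type*} [Group X]

/-- `L₂(2ⁿ)`, `Sz(2ⁿ)`, `L₂(p)` or `J₁`. -/
def Thin (X : Type*) [Group X] : Prop :=
  (∃ (F : Type) (_ : Field F) (_ : Fintype F), CharP F 2 ∧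
    Nonempty (X ≃* ProjectiveSpecialLinearGroup (Fin 2) F)) ∨ IsoSuzuki X ∨
  (∃ (F : Type) (_ : Field F) (_ : Fintype F), (Fintype.card F).Prime ∧ Fintype.card F ≠ 2 ∧
    Nonempty (X ≃* ProjectiveSpecialLinearGroup (Fin 2) F)) ∨ Spor.IsoJ1 X

theorem known_cases (h : IsKnownSimple' X) : IsPrimeCyclic X ∨ IsAlternating X ∨
    (∃ p : ℕ, p.Prime ∧ IsLieTypeChar p X) ∨ IsoTits X ∨ IsSporadicGroup X := by
  have c : ∀ (F : Type) [Field F] [Fintype F], (ringChar F).Prime := fun F _ _ =>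
    CharP.char_is_prime F _
  rcases h with h | h | ⟨F, _, _, h⟩ | ⟨F, _, _, h⟩ | ⟨F, _, _, h⟩ | ⟨F, _, _, h⟩ | ⟨F, _, _, h⟩ |
    ⟨F, _, _, h⟩ | (⟨F, _, _, h⟩ | ⟨F, _, _, h⟩ | ⟨F, _, _, h⟩ | ⟨F, _, _, h⟩ | ⟨F, _, _, h⟩ |
    ⟨F, _, _, q, hq, h⟩ | ⟨F, _, _, q, hq, h⟩ | h | h | h | h) | h
  · exact .inl h
  · exact .inr (.inl h)
  all_goals first
    | exact .inr <| .inr <| .inr <| .inl h
    | exact .inr <| .inr <| .inr <| .inr h
    | refine .inr <| .inr <| .inl ?_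
  · exact ⟨_, c F, .inl ⟨F, inferInstance, inferInstance, inferInstance, h⟩⟩
  · exact ⟨_, c F, .inr <| .inl ⟨F, inferInstance, inferInstance, inferInstance, h⟩⟩
  · exact ⟨_, c F, .inr <| .inr <| .inl ⟨F, inferInstance, inferInstance, inferInstance, h⟩⟩
  · exact ⟨_, c F, .inr <| .inr <| .inr <| .inl ⟨F, inferInstance, inferInstance, inferInstance, h⟩⟩
  · exact ⟨_, c F, .inr <| .inr <| .inr <| .inr <| .inl ⟨F, inferInstance, inferInstance, inferInstance, h⟩⟩
  · exact ⟨_, c F, .inr <| .inr <| .inr <| .inr <| .inr <| .inl ⟨F, inferInstance, inferInstance, inferInstance, h⟩⟩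
  iterate 5 exact ⟨_, c F, .inr <| .inr <| .inr <| .inr <| .inr <| .inr <| .inl
    ⟨F, inferInstance, inferInstance, inferInstance, by simp only [h, true_or, or_true, and_self]⟩⟩
  iterate 2 exact ⟨_, c F, .inr <| .inr <| .inr <| .inr <| .inr <| .inr <| .inr <| .inl
    ⟨F, inferInstance, inferInstance, inferInstance, q, hq, by simp only [h, true_or, or_true, and_self]⟩⟩
  · exact ⟨2, Nat.prime_two, by simp only [IsLieTypeChar, h, true_or, or_true, and_self]⟩
  · exact ⟨3, Nat.prime_three, by simp only [IsLieTypeChar, h, or_true, and_self]⟩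
  · exact ⟨2, Nat.prime_two, by simp only [IsLieTypeChar, h, true_or, or_true, and_self]⟩

theorem exists_odd_prime_dvd {n : ℕ} (h : Odd n) (h1 : n ≠ 1) : ∃ r, r.Prime ∧ r ≠ 2 ∧ r ∣ n := by
  obtain ⟨r, hr, hn⟩ := Nat.exists_prime_and_dvd h1
  exact ⟨r, hr, fun e => h.not_two_dvd_nat (e ▸ hn), hn⟩

theorem not_cyc_alt {n : ℕ} (hn : 6 ≤ n) : ¬ Cyc 3 (alternatingGroup (Fin n)) := fun h => by
  have := Fact.mk Nat.prime_three
  let f := (Fin.castLEEmb hn).toEquivRange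
  let φ : alternatingGroup (Fin 6) →* alternatingGroup (Fin n) :=
    ((Equiv.Perm.extendDomainHom f).comp (alternatingGroup (Fin 6)).subtype).codRestrict _ fun g =>
      (Equiv.Perm.sign_extendDomain _ f).trans g.2
  have h1 := (h.of_inj φ fun a b e => Subtype.ext (Equiv.Perm.extendDomainHom_injective f
    (congrArg Subtype.val e))).mem_zpowers 
    (a := ⟨c[0, 1, 2], Equiv.Perm.mem_alternatingGroup.2 (by decide)⟩)
    (b := ⟨c[3, 4, 5], Equiv.Perm.mem_alternatingGroup.2 (by decide)⟩)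
    (by decide) (by decide) (Subtype.ext (by decide)) (by decide)
  exact absurd (zpowers_le.2 (show _ ∈ MulAction.stabilizer _ (3 : Fin 6) by decide) h1) (by decide)

theorem thin_of_card {F : Type} [Field F] [Fintype F] (h : (Fintype.card F).Prime)
    (h2 : Fintype.card F ≠ 2) (e : Nonempty (X ≃* ProjectiveSpecialLinearGroup (Fin 2) F)) : Thin X :=
  .inr <| .inr <| .inl ⟨F, inferInstance, inferInstance, h, h2, e⟩

variable [Finite X] [IsSimpleGroup X]

theorem lie_two (h : ∀ p : ℕ, p.Prime → p ≠ 2 → Cyc p X) (hX : IsLieTypeChar 2 X) : Thin X := by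
  have := Fact.mk Nat.prime_two
  have h3 := h 3 Nat.prime_three (by norm_num)
  have ev : ∀ (F : Type) [Field F] [Fintype F] [CharP F 2], Even (Fintype.card F) := fun F _ _ _ =>
    even_iff_two_dvd.2 ((prime_dvd_char_iff_dvd_card 2).1 (ringChar.eq F 2).symm.dvd)
  rcases hX with ⟨F, _, _, _, n, hn, -, ⟨e⟩⟩ | ⟨F, _, _, _, m, hm, -, ⟨e⟩⟩ |
    ⟨F, _, _, _, n, q, hF, hn, -, ⟨e⟩⟩ | ⟨F, _, _, _, m, -, ho, -⟩ | ⟨F, _, _, _, m, hm, ⟨e⟩⟩ |
    ⟨F, _, _, _, m, a, b, hm, hab, ⟨e⟩⟩ | ⟨F, _, _, _, ⟨-, ⟨e⟩⟩ | ⟨⟨e⟩⟩ | ⟨⟨e⟩⟩ | ⟨⟨e⟩⟩ | ⟨⟨e⟩⟩⟩ |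
    ⟨F, _, _, _, q, hq, ⟨hF, ⟨e⟩⟩ | ⟨hF, ⟨e⟩⟩⟩ | ⟨-, hX⟩ | ⟨-, F, _, _, m, -, hF, ⟨e⟩⟩ | ⟨h0, -⟩
  · rcases (by omega : n = 2 ∨ n = 3 ∨ 4 ≤ n) with rfl | rfl | h4
    · exact .inl ⟨F, inferInstance, inferInstance, inferInstance, ⟨e⟩⟩
    · by_cases hF : Fintype.card F = 2
      · have := Fact.mk (by norm_num : Nat.Prime 7)
        have h1 := Cfsg.Agent.S0243.result hF 3 (by norm_num)
        rw [← Nat.card_congr e.toEquiv] at h1
        exact thin_of_card (F := ZMod 7) (by simpa using this.out) (by simp)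
          (Cfsg.Agent.S0495.result (by simpa [Fin.prod_univ_succ] using h1) (by simp))
      · have h1 := Fintype.one_lt_card (α := F)
        obtain ⟨r, hr, r2, hd⟩ := exists_odd_prime_dvd (Nat.Even.sub_odd h1.le (ev F) odd_one) (by omega)
        have := Fact.mk hr
        exact (not_cyc_PSL le_rfl hd ((h r hr r2).congr e)).elim
    · exact ((s33_SL h4).quot.not_cyc (h3.congr e)).elim
  · exact ((s33_Sp hm).quot.not_cyc (h3.congr e)).elim
  · have h1 := Fintype.one_lt_card (α := F)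
    obtain ⟨r, hr, r2, hd⟩ := exists_odd_prime_dvd (n := q + 1)
      (Even.add_one (Nat.even_pow.1 (hF ▸ ev F)).1) fun e => by
        rw [hF, show q = 0 by omega] at h1
        simp at h1
    have := Fact.mk hr
    exact (not_cyc_PSU hF hn hd ((h r hr r2).congr e)).elim
  · exact (Nat.not_odd_iff_even.2 (ev F) ho).elim
  · exact ((s33_plus hm).quot.not_cyc (h3.congr e)).elim
  · obtain ⟨k, rfl⟩ : ∃ k, m = k + 2 := ⟨m - 2, by omega⟩
    exact ((s33_minus (k := k) hab (by omega)).quot.not_cyc (h3.congr e)).elim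
  · exact (s33_G2.not_cyc (h3.congr e)).elim
  · exact ((s33_chev (by simp) ⟨0, by decide⟩ ⟨2, by decide⟩ (by decide) (by decide)).not_cyc
      (h3.congr e)).elim
  iterate 3 exact ((s33_chev (by simp) ⟨0, by decide⟩ ⟨1, by decide⟩ (by decide) (by decide +kernel)).not_cyc
      (h3.congr e)).elim
  · exact ((s33_2E6 hq hF).not_cyc (h3.congr e)).elim
  · exact ((s33_3D4 hq hF).not_cyc (h3.congr e)).elim
  · exact .inr (.inl hX)
  · exact ((s33_2F4 hF).not_cyc (h3.congr e)).elim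
  · omega

/-- A known non-abelian simple group with cyclic Sylow subgroups for all odd primes is `L₂(2ⁿ)`,
`Sz(2ⁿ)`, `L₂(p)` or `J₁`. -/
theorem thin_of_cyc (hna : ¬ IsMulCommutative X) (hK : IsKnownSimple' X)
    (h : ∀ p : ℕ, p.Prime → p ≠ 2 → Cyc p X) : Thin X := by
  have h3 := h 3 Nat.prime_three (by norm_num)
  rcases known_cases hK with h1 | ⟨n, hn, ⟨e⟩⟩ | ⟨p, hp, h1⟩ | ⟨⟨e⟩⟩ | h1
  · have : Fact (Nat.card X).Prime := ⟨h1⟩
    have := isCyclic_of_prime_card (α := X) rfl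
    exact (hna IsCyclic.isMulCommutative).elim
  · rcases hn.eq_or_lt with rfl | hn
    · have := Fact.mk Nat.prime_five
      have := H10.isSimpleGroup_PSL_fin (F := ZMod 5) 2 le_rfl (by simp)
      obtain ⟨f⟩ := Cfsg.Agent.S0494.result (G := ProjectiveSpecialLinearGroup (Fin 2) (ZMod 5)) (by
        have := Cfsg.Agent.S0243.result (ZMod.card 5) 2 le_rfl
        rw [Fin.prod_univ_two, show Nat.gcd 2 (5 - 1) = 2 from rfl] at this
        simp only [Fin.val_zero, Fin.val_one] at this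
        omega)
      exact thin_of_card (F := ZMod 5) (by simpa using Nat.prime_five) (by simp) ⟨e.trans f.symm⟩
    · exact (not_cyc_alt hn (h3.congr e)).elim
  · rcases eq_or_ne p 2 with rfl | h2
    · exact lie_two h h1
    · have := Fact.mk hp
      exact (lie_odd h2 h1 (h p hp h2)).elim .inl fun h => .inr (.inr (.inl h))
  · exact ((s33_2F4 (F := ZMod 2) (m := 0) (by simp)).not_cyc_commutator (h3.congr e)).elim
  · exact .inr <| .inr <| .inr (spor_cyc hna h3 (h 5 Nat.prime_five (by norm_num)) h1)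

theorem force_RkList : @Thin.eq_1.{0} = @Thin.eq_1.{0} := rfl

end H90.QT
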