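import Mathlib
import Cfsg.Agent.Base
import Cfsg.Agent.Lib.QT.SQT
import Cfsg.Agent.S0205

/-! Nonsolvable uniqueness subgroups of QTKE-groups, assuming the Schreier property. -/

set_option autoImplicit false

namespace H90.QT
open Subgroup Cfsg
open scoped commutatorElement Pointwise

variable {X : Type*} [Group X] [Finite X] {X' : Type*} [Group X']

theorem perfect_le_of_odd {Y M : Subgroup X} (hY : ⁅Y, Y⁆ = Y) (hn : Y ≤ normalizer (M : Set X))
    (h : Odd (M.relIndex Y)) : Y ≤ M := fun x hx => by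
  set N := normalizer (M : Set X)
  have : (M.subgroupOf N).Normal := normal_in_normalizer
  have h1 := perfect_le_ker (perfect_subgroupOf hY hn) (QuotientGroup.mk' (M.subgroupOf N))
    (Cfsg.Agent.S0205.result (by rwa [H1.card_map_mk'_eq_relIndex, relIndex_subgroupOf hn]))
  rw [QuotientGroup.ker_mk'] at h1
  exact h1 (show (⟨x, hn hx⟩ : N) ∈ Y.subgroupOf N from hx)

omit [Finite X] in
theorem relIndex_map_dvd (f : X →* X') (N K : Subgroup X) :
    (N.map f).relIndex (K.map f) ∣ N.relIndex K := by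
  rw [← relIndex_comap]
  exact relIndex_dvd_of_le_left _ (le_comap_map _ _)

omit [Finite X] in
theorem perfect_le_ker_of_odd [Finite X'] (f : X →* X') {Y N K : Subgroup X} (hY : ⁅Y, Y⁆ = Y)
    (hNK : N ≤ K) (hYK : Y.map f ≤ K.map f) (hn : Y ≤ normalizer (N : Set X))
    (ho : Odd (N.relIndex K)) (hs : Group.IsSolvable (⁅Y, N⁆ : Subgroup X)) : Y ≤ f.ker := by
  have h1 := (map_mono hn).trans (le_normalizer_map (H := N) f)
  have h2 := perfect_le_of_odd (perfect_map hY f) h1 (ho.of_dvd_nat (by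
    rw [← H1.relIndex_sup_of_le_normalizer h1]
    exact (Dvd.intro _ (relIndex_mul_relIndex _ _ _ le_sup_right (sup_le hYK (map_mono hNK)))).trans
      (relIndex_map_dvd f N K)))
  refine perfect_le_ker hY f (H1.isSolvable_of_le (H1.isSolvable_map hs f) ?_)
  rw [map_commutator]
  exact (perfect_map hY f).ge.trans (commutator_mono le_rfl h2)

theorem le_centralizer_of_odd {J Y N : Subgroup X} (hJ : IsComponent J) (hY : ⁅Y, Y⁆ = Y)
    (hYE : Y ≤ layer X) (hNJ : N ≤ J) (hn : Y ≤ normalizer (N : Set X)) (ho : Odd (N.relIndex J))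
    (hs : Group.IsSolvable (⁅Y, N⁆ : Subgroup X)) : Y ≤ centralizer (J : Set X) := fun x hx => by
  set W := normalizer (J : Set X)
  have hE : layer X ≤ W := H23.IsComponent.layer_le_normalizer hJ
  have hJW : J ≤ W := le_normalizer
  have h1 := perfect_le_ker_of_odd J.normalizerMonoidHom (perfect_subgroupOf hY (hYE.trans hE))
    (N := N.subgroupOf W) (K := J.subgroupOf W) (fun _ h => hNJ h) (by
      rw [map_le_iff_le_comap, comap_map_eq, normalizerMonoidHom_ker,
        ← subgroupOf_sup hJW (centralizer_le_normalizer _)]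
      exact fun y hy => sup_le_sup_left inf_le_right J
        ((H23.IsComponent.layer_eq_sup_centralizer hJ).le (hYE hy)))
    (fun y hy => le_normalizer_comap W.subtype (hn hy)) (by rwa [relIndex_subgroupOf hJW]) (by
      refine H1.isSolvable_of_map_injective W.subtype_injective ?_
      rwa [map_commutator, map_subgroupOf_eq_of_le (hYE.trans hE),
        map_subgroupOf_eq_of_le (hNJ.trans hJW)])
  rw [normalizerMonoidHom_ker] at h1
  exact h1 (show (⟨x, hE (hYE hx)⟩ : W) ∈ Y.subgroupOf W from hx)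

theorem odd_relIndex_of_sylow (S : Sylow 2 X) {K N : Subgroup X} (hK : K.IsSubnormal)
    (h : (S : Subgroup X) ⊓ K ≤ N) : Odd (N.relIndex K) := by
  obtain ⟨Q, hQ⟩ := H21.exists_sylow_eq_subgroupOf_of_isSubnormal hK S
  refine Odd.of_dvd_nat (Nat.odd_iff.2 (Nat.two_dvd_ne_zero.1 Q.not_dvd_index)) ?_
  rw [hQ]
  exact index_dvd_of_le fun x hx => h ⟨hx, x.2⟩

/-- A `calC` member of an overgroup of a Sylow 2-subgroup lies in a `calC` member. -/
theorem exists_cc_ge (hr : IsStronglyQuasithin X)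
    (hOut : ∀ J : Subgroup (X ⧸ solvableRadical X), IsComponent J → Group.IsSolvable (Out J))
    (S : Sylow 2 X) {B L : Subgroup X} (hSB : (S : Subgroup X) ≤ B) (hLB : L ≤ B)
    (hL : L.subgroupOf B ∈ calC B) : ∃ K ∈ calC X, L ≤ K := by
  by_contra! h
  have hp : ⁅L, L⁆ = L := by
    rw [← map_subgroupOf_eq_of_le hLB]
    exact perfect_map hL.2.1 _
  have h1 : L ≤ sSup (calC X) := perfect_le_sSup_calC hOut (fun _ hL => cc_index hr hL) hp
  set π := QuotientGroup.mk' (solvableRadical X)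
  have h2 : L.map π ≤ layer _ := (map_mono h1).trans map_sSup_calC.le
  have h3 : L.map π ≤ centralizer (layer (X ⧸ solvableRadical X) : Set _) := by
    refine H23.le_centralizer_sSup_iff.2 fun J hJ => ?_
    obtain ⟨K, hK, rfl⟩ := exists_cc_map_eq hJ
    have h4 : L ≤ normalizer ((B ⊓ K : Subgroup X) : Set X) :=
      (le_inf (hLB.trans le_normalizer) ((h1.trans le_sup_left).trans (cc_le_normalizer hK))).trans
        inf_normalizer_le_normalizer_inf
    refine le_centralizer_of_odd hJ (perfect_map hp π) h2 (map_mono (inf_le_right (a := B)))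
      ((map_mono h4).trans (le_normalizer_map π))
      ((odd_relIndex_of_sylow S hK.2.2.1 (inf_le_inf_right K hSB)).of_dvd_nat (relIndex_map_dvd π _ _)) ?_
    rw [← map_commutator]
    refine H1.isSolvable_map ?_ π
    have h5 := (cc_le_or hL (hK.2.2.1.subgroupOf (K := B))).resolve_left fun e =>
      h K hK fun x hx => e (show (⟨x, hLB hx⟩ : B) ∈ L.subgroupOf B from hx)
    have h6 := H1.isSolvable_map (H1.isSolvable_of_le inferInstance h5) B.subtype
    rwa [map_commutator, map_subgroupOf_eq_of_le hLB, subgroupOf_map_subtype, inf_comm] at h6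
  rw [centralizer_layer_eq_bot fitting_quot, le_bot_iff] at h3
  exact cc_not_solvable hL (H1.isSolvable_subgroupOf (H1.isSolvable_of_le ker_solv
    ((Subgroup.map_eq_bot_iff _).1 h3)) _)

variable {G : Type*} [Group G] [Finite G]

omit [Finite G] in
theorem pCoreOf_ne_bot {H : Subgroup G} (hH : H ∈ calH G) : pCoreOf 2 H ≠ ⊥ := fun h =>
  hH ((map_eq_bot_iff_of_injective _ H.subtype_injective).1 h)

omit [Finite G] in
theorem twoLocal_of_calH {H : Subgroup G} (hH : H ∈ calH G) :
    IsTwoLocal (normalizer (pCoreOf 2 H : Set G)) :=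
  ⟨_, H1.isPGroup_pCoreOf H, pCoreOf_ne_bot hH, rfl⟩

omit [Finite G] in
theorem calH_of_twoLocal {M : Subgroup G} (hM : IsTwoLocal M) : M ∈ calH G := by
  obtain ⟨Q, h1, h2, rfl⟩ := hM
  intro h
  have h3 := H1.le_pCoreOf le_normalizer le_rfl h1
  rw [H1.pCoreOf_def, h, Subgroup.map_bot, le_bot_iff] at h3
  exact h2 h3

omit [Finite G] in
theorem sqt_of_calH (hQ : IsQuasithin G) {H : Subgroup G} (hH : H ∈ calH G) : IsStronglyQuasithin H :=
  fun p hp hp2 => H49.pRankLE_of_le (H1.le_normalizer_pCoreOf H) (hQ p hp hp2 _ (twoLocal_of_calH hH))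

theorem exists_max_local {H : Subgroup G} (hH : H ∈ calH G) : ∃ M, M ∈ maxTwoLocalsContaining H := by
  obtain ⟨M, h1, h2⟩ := WellFounded.has_min (wellFounded_gt (α := Subgroup G))
    {M | IsTwoLocal M ∧ H ≤ M} ⟨_, twoLocal_of_calH hH, H1.le_normalizer_pCoreOf H⟩
  exact ⟨M, ⟨h1.1, fun N hN hle => by_contra fun e =>
    h2 N ⟨hN, h1.2.trans hle⟩ (lt_of_le_of_ne hle (Ne.symm e))⟩, h1.2⟩

theorem max_eq_singleton {U Y : Subgroup G} (hU : U ∈ calH G) (hY : Y ∈ calH G)
    (h : ∀ M ∈ maxTwoLocalsContaining U, M ≤ normalizer (Y : Set G)) :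
    maxTwoLocalsContaining U = {normalizer (Y : Set G)} := by
  have key : ∀ M ∈ maxTwoLocalsContaining U, M = normalizer (Y : Set G) := fun M hM =>
    le_antisymm (h M hM) ((H1.normalizer_le_normalizer_pCoreOf Y).trans (hM.1.2 _ (twoLocal_of_calH hY)
      ((h M hM).trans (H1.normalizer_le_normalizer_pCoreOf Y))).le)
  obtain ⟨M, hM⟩ := exists_max_local hU
  exact Set.eq_singleton_iff_unique_mem.2 ⟨key M hM ▸ hM, key⟩

theorem mem_calL (T : Sylow 2 G) {H K : Subgroup G} (hH : H ∈ calH G) (hT : (T : Subgroup G) ≤ H)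
    (hKH : K ≤ H) (hK : K.subgroupOf H ∈ calC H) : K ∈ calL (T : Subgroup G) := by
  refine ⟨cc_change hKH le_sup_left hK (H23.isSubnormal_subgroupOf_of_le (sup_le hKH hT) hK.2.2.1),
    ⟨T.subtype le_sup_right, rfl⟩, fun h => pCoreOf_ne_bot hH ?_⟩
  have h1 := H1.pCoreOf_inf_le (p := 2) (sup_le hKH hT)
  rwa [inf_of_le_left ((H1.pCoreOf_le_sylow T hT).trans le_sup_right), H1.pCoreOf_def 2 (K ⊔ _), h,
    Subgroup.map_bot, le_bot_iff] at h1

theorem s1821 (hQ : IsQTKE G)
    (hOut : ∀ H ∈ calH G, ∀ J : Subgroup (H ⧸ solvableRadical H), IsComponent J →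
      Group.IsSolvable (Out J))
    (T : Sylow 2 G) (L : Subgroup G) (hL : L ∈ calLMax (T : Subgroup G)) :
    (∀ H ∈ calHOver (L ⊔ (T : Subgroup G)), L.subgroupOf H ∈ calC H) ∧
    generalizedFittingSubgroup L = pCore 2 L ∧
    maxTwoLocalsContaining (L ⊔ (T : Subgroup G)) =
      {normalizer (conjClosure L (T : Subgroup G) : Set G)} := by
  obtain ⟨h0, hp, hs, h2⟩ := H20.calL_facts hL.1
  have h1 : ∀ H ∈ calHOver (L ⊔ (T : Subgroup G)), L.subgroupOf H ∈ calC H := by
    rintro H ⟨hH, hle⟩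
    have hT := le_sup_right.trans hle
    have hLH := le_sup_left.trans hle
    obtain ⟨K, hK, hLK⟩ := exists_cc_ge (sqt_of_calH hQ.1 hH) (hOut H hH) (T.subtype hT)
      (B := (L ⊔ T).subgroupOf H) (L := L.subgroupOf H) (fun _ h => mem_sup_right h)
      (fun _ h => mem_sup_left h) (by
        have h3 := cc_map_equiv hL.1.1 (subgroupOfEquivOfLe hle).symm
        convert h3 using 1
        ext x
        exact ⟨fun h => ⟨subgroupOfEquivOfLe hle x, h, MulEquiv.symm_apply_apply _ x⟩,
          fun ⟨y, h, e⟩ => e ▸ h⟩)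
    have h3 : (K.map H.subtype).subgroupOf H = K := comap_map_eq_self_of_injective H.subtype_injective K
    have h4 := hL.2 _ (mem_calL T hH hT (map_subtype_le K) (h3.symm ▸ hK)) (by
      rw [← map_subgroupOf_eq_of_le hLH]; exact map_mono hLK)
    rwa [← h4, h3]
  have hF : generalizedFittingSubgroup L = pCore 2 L := H20.mem_calHe_iff.2
    ((H20.charP_of_evenChar hQ.2.2 T le_sup_right h2).of_isSubnormal le_sup_left hs)
  have hLL : L ≤ conjClosure L (T : Subgroup G) := le_iSup_of_le 1 fun x hx => ⟨x, hx, by simp⟩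
  have hle : conjClosure L (T : Subgroup G) ≤ L ⊔ T := iSup_le fun t => by
    rintro _ ⟨x, hx, rfl⟩
    exact mul_mem (mul_mem (mem_sup_right t.2) (mem_sup_left hx)) (inv_mem (mem_sup_right t.2))
  refine ⟨h1, hF, max_eq_singleton h2 (fun h => ?_) fun M hM => ?_⟩
  · have : Nontrivial L := (nontrivial_iff_ne_bot L).2 h0
    refine H23.fStar_ne_bot (G := L) (hF.trans ((map_eq_bot_iff_of_injective _ L.subtype_injective).1
      (le_bot_iff.1 ((le_inf (H70.pCoreOf_le_pCoreOf_of_isSubnormal le_sup_left hs)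
        ((map_subtype_le _).trans hLL)).trans ((H1.pCoreOf_inf_le hle).trans ?_)))))
    rw [H1.pCoreOf_def, h, Subgroup.map_bot]
  have hM' := calH_of_twoLocal hM.1.1
  have hT := le_sup_right.trans hM.2
  have hLM := le_sup_left.trans hM.2
  have hC := h1 M ⟨hM', hM.2⟩
  have key : ∀ m : M, MulAut.conj (m : G) • L ≤ conjClosure L (T : Subgroup G) := fun m => by
    obtain ⟨t, ht, h3⟩ : ∃ t : M, (t : G) ∈ (T : Subgroup G) ∧
        MulAut.conj m • L.subgroupOf M = MulAut.conj t • L.subgroupOf M := by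
      by_contra! h
      have h4 : ((T.subtype hT : Sylow 2 M) : Subgroup M) ≤ normalizer (L.subgroupOf M : Set M) :=
        fun t ht => H1.mem_normalizer_iff_conj_smul_eq.2
          ((cc_three (sqt_of_calH hQ.1 hM') hC m t).elim (fun e => absurd (by simpa using e) (h 1 (one_mem _)))
            fun e => e.resolve_right (h t ht))
      rcases cc_index (sqt_of_calH hQ.1 hM') hC with h5 | h5
      · exact h 1 (one_mem _) (by simpa using H1.mem_normalizer_iff_conj_smul_eq.1 (h5.ge (mem_top m)))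
      · exact (T.subtype hT).not_dvd_index (h5.symm.dvd.trans (index_dvd_of_le h4))
    have h4 := congrArg (map M.subtype) h3
    rw [H1.map_conj_smul, H1.map_conj_smul, map_subgroupOf_eq_of_le hLM] at h4
    exact h4.le.trans (le_iSup_of_le (⟨t, ht⟩ : (T : Subgroup G)) le_rfl)
  have key2 : ∀ m ∈ M, MulAut.conj m • conjClosure L (T : Subgroup G) ≤ conjClosure L (T : Subgroup G) :=
    fun m hm => by
      rw [H1.conj_smul_eq_map, map_le_iff_le_comap]
      refine iSup_le fun t => map_le_iff_le_comap.1 ?_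
      have h3 := key ⟨m * t, mul_mem hm (hT t.2)⟩
      rwa [← H1.conj_smul_conj_smul] at h3
  refine fun m hm => H1.mem_normalizer_iff_conj_smul_eq.2 (eq_of_le_of_card_ge (key2 m hm) ?_)
  rw [H1.card_conj_smul]

end H90.QT
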