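import Mathlib
import Cfsg.Agent.Base
import Cfsg.Agent.Lib.QT.Cube
import Cfsg.Agent.Lib.QT.Uniq
import Cfsg.Agent.Lib.KGrp.Shape
import Cfsg.Agent.S0262

/-! Abstract data attached to a member of `Xi`. -/

set_option autoImplicit false

namespace H90.QT
open Subgroup Cfsg
open scoped commutatorElement Pointwise MatrixGroups

variable {Y : Type*} [Group Y] {Z : Type*} [Group Z] {p : ℕ}

/-- `T` acts irreducibly on the elementary abelian section `X / D` of order `p ^ 2`. -/
structure XD (p : ℕ) (X T D P : Subgroup Y) : Prop where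
  nT : T ≤ normalizer (X : Set Y)
  nD : T ≤ normalizer (D : Set Y)
  DX : D ≤ X
  PX : P ≤ X
  irr : ∀ N : Subgroup Y, X ≤ normalizer (N : Set Y) → T ≤ normalizer (N : Set Y) →
    X ≤ N ∨ X ⊓ N ≤ D
  idx : D.relIndex X = p ^ 2
  pw : ∀ x ∈ X, x ^ p ∈ D
  comm : ⁅X, X⁆ ≤ D
  two : ∀ x ∈ X, ∃ k : ℕ, (x ^ p) ^ 2 ^ k = 1
  gen : X ≤ closure {x | x ∈ X ∧ x ^ p = 1}
  pP : IsPGroup p P
  sup : X ≤ P ⊔ D

variable {X T D P : Subgroup Y}

theorem map_le_normalizer {A B : Subgroup Y} (h : A ≤ normalizer (B : Set Y)) (f : Y →* Z) :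
    A.map f ≤ normalizer ((B.map f : Subgroup Z) : Set Z) :=
  (map_mono h).trans (le_normalizer_map f)

theorem le_normalizer_comap' {A : Subgroup Y} {N : Subgroup Z} {f : Y →* Z}
    (h : A.map f ≤ normalizer (N : Set Z)) : A ≤ normalizer ((N.comap f : Subgroup Y) : Set Y) :=
  (map_le_iff_le_comap.1 h).trans (le_normalizer_comap f)

theorem XD.map (h : XD p X T D P) (f : Y →* Z) (hk : X ⊓ f.ker ≤ D) :
    XD p (X.map f) (T.map f) (D.map f) (P.map f) where
  nT := map_le_normalizer h.nT f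
  nD := map_le_normalizer h.nD f
  DX := map_mono h.DX
  PX := map_mono h.PX
  irr N h1 h2 := (h.irr _ (le_normalizer_comap' h1) (le_normalizer_comap' h2)).imp
    map_le_iff_le_comap.2 fun h3 => (map_inf_comap f X N).ge.trans (map_mono h3)
  idx := by
    rw [← relIndex_comap, comap_map_eq, ← inf_relIndex_right, H1.sup_inf_eq_of_le_of_le_normalizer' h.DX
      le_normalizer_of_normal, sup_of_le_left ((inf_comm _ _).le.trans hk), h.idx]
  pw := by
    rintro _ ⟨x, hx, rfl⟩
    exact ⟨_, h.pw x hx, map_pow f x p⟩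
  comm := by rw [← map_commutator]; exact map_mono h.comm
  two := by
    rintro _ ⟨x, hx, rfl⟩
    exact (h.two x hx).imp fun k hk => by rw [← map_pow, ← map_pow, hk, map_one]
  gen := (map_mono h.gen).trans ((MonoidHom.map_closure _ _).le.trans (closure_mono (by
    rintro _ ⟨x, hx, rfl⟩
    exact ⟨mem_map_of_mem f hx.1, by rw [← map_pow, hx.2, map_one]⟩)))
  pP := h.pP.map f
  sup := (map_mono h.sup).trans (Subgroup.map_sup _ _ _).le

theorem XD.subgroupOf (h : XD p X T D P) {H : Subgroup Y} (hX : X ≤ H) (hT : T ≤ H) :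
    XD p (X.subgroupOf H) (T.subgroupOf H) (D.subgroupOf H) (P.subgroupOf H) where
  nT := (comap_mono h.nT).trans (le_normalizer_comap _)
  nD := (comap_mono h.nD).trans (le_normalizer_comap _)
  DX := comap_mono h.DX
  PX := comap_mono h.PX
  irr N h1 h2 := (h.irr (N.map H.subtype)
    (map_subgroupOf_eq_of_le hX ▸ map_le_normalizer h1 _)
    (map_subgroupOf_eq_of_le hT ▸ map_le_normalizer h2 _)).imp
    (fun h3 => (comap_mono h3).trans (comap_map_eq_self_of_injective H.subtype_injective N).le)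
    fun h3 x hx => h3 ⟨hx.1, mem_map_of_mem _ hx.2⟩
  idx := by rw [relIndex_subgroupOf hX, h.idx]
  pw x hx := h.pw x hx
  comm := commutator_le.2 fun a ha b hb => h.comm (commutator_mem_commutator ha hb)
  two x hx := (h.two x hx).imp fun _ hk => Subtype.ext hk
  gen := by
    rw [← map_le_map_iff_of_injective H.subtype_injective, map_subgroupOf_eq_of_le hX,
      MonoidHom.map_closure]
    exact h.gen.trans (closure_mono fun x hx => ⟨⟨x, hX hx.1⟩, ⟨hx.1, Subtype.ext hx.2⟩, rfl⟩)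
  pP := h.pP.comap_subtype
  sup := (comap_mono h.sup).trans (subgroupOf_sup (h.PX.trans hX) (h.DX.trans hX)).le

theorem XD.nX (h : XD p X T D P) : X ≤ normalizer (D : Set Y) :=
  le_normalizer_iff_commutator_le_right.2 ((commutator_mono le_rfl h.DX).trans h.comm)

theorem XD.cm (h : XD p X T D P) {a b : Y} (ha : a ∈ X) (hb : b ∈ X) : a * b * a⁻¹ * b⁻¹ ∈ D :=
  h.comm (commutator_mem_commutator ha hb)

variable [Finite Y] [hp : Fact p.Prime]

omit [Finite Y] in
theorem XD.not_le (h : XD p X T D P) {u : Y} (hu : u ∈ X) : ¬ X ≤ zpowers u ⊔ D := fun h1 => by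
  have := (normal_subgroupOf_iff_le_normalizer h.DX).2 h.nX
  have h2 : orderOf (QuotientGroup.mk' (D.subgroupOf X) ⟨u, hu⟩) = p ^ 2 := by
    rw [← h.idx]
    refine orderOf_eq_card_of_forall_mem_zpowers fun y => ?_
    obtain ⟨x, rfl⟩ := QuotientGroup.mk'_surjective _ y
    obtain ⟨_, ⟨k, rfl⟩, d, hd, e⟩ := (H23.mem_sup_iff_of_le_normalizer'
      ((zpowers_le.2 hu).trans h.nX)).1 (h1 x.2)
    refine ⟨k, ?_⟩
    simp only [← map_zpow]
    exact QuotientGroup.eq.2 (show (u ^ k)⁻¹ * x ∈ D by rwa [← e, inv_mul_cancel_left])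
  have h3 : p ^ 2 ∣ p := h2 ▸ orderOf_dvd_of_pow_eq_one (by
    rw [← map_pow]; exact (QuotientGroup.eq_one_iff _).2 (h.pw u hu))
  have := Nat.le_of_dvd hp.out.pos h3
  nlinarith [hp.out.two_le]

theorem XD.no_line (h : XD p X T D P) {v : Y} (hv : v ∈ X) (hvD : v ∉ D)
    (hT : ∀ t ∈ T, t * v * t⁻¹ ∈ zpowers v ⊔ D) : False := by
  have key : ∀ g ∈ normalizer (D : Set Y), g * v * g⁻¹ ∈ zpowers v ⊔ D →
      g ∈ normalizer ((zpowers v ⊔ D : Subgroup Y) : Set Y) := fun g hg h1 =>
    H1.mem_normalizer_iff_conj_smul_eq.2 (eq_of_le_of_card_ge (by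
      rw [smul_sup, H1.mem_normalizer_iff_conj_smul_eq.1 hg, H1.conj_smul_eq_map,
        MonoidHom.map_zpowers]
      exact sup_le (zpowers_le.2 h1) le_sup_right) (H1.card_conj_smul _ _).ge)
  refine (h.irr _ (fun x hx => key x (h.nX hx) ?_) fun t ht => key t (h.nD ht) (hT t ht)).elim
    (h.not_le hv) fun h1 => hvD (h1 ⟨hv, mem_sup_left (mem_zpowers v)⟩)
  rw [← inv_mul_cancel_right (x * v * x⁻¹) v]
  exact mul_mem (mem_sup_right (h.cm hx hv)) (mem_sup_left (mem_zpowers v))

omit [Finite Y] in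
theorem XD.le_ker (h : XD p X T D P) (f : Y →* Z) (hc : IsCyclic (P.map f)) : X ≤ f.ker := by
  refine (h.irr _ le_normalizer_of_normal le_normalizer_of_normal).resolve_right fun h1 => ?_
  obtain ⟨⟨_, u, hu, rfl⟩, h2⟩ := hc.exists_generator
  refine h.not_le (h.PX hu) (h.sup.trans (sup_le (fun x hx => ?_) le_sup_right))
  obtain ⟨k, hk⟩ := h2 ⟨_, mem_map_of_mem f hx⟩
  rw [← mul_inv_cancel_left (u ^ k) x]
  refine mul_mem (mem_sup_left ⟨k, rfl⟩) (mem_sup_right (h1 (mem_inf.2 ⟨mul_mem (inv_mem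
    (zpow_mem (h.PX hu) k)) (h.PX hx), ?_⟩)))
  have h3 : f u ^ k = f x := congrArg Subtype.val hk
  rw [MonoidHom.mem_ker, map_mul, map_inv, map_zpow, h3, inv_mul_cancel]

theorem XD.le_comm (h : XD p X T D P) {W : Subgroup Y} (hW : W = ⊤ ∨ W.index = 2) (hX : X ≤ W) :
    X ≤ ⁅W, W⁆ := by
  have : W.Normal := hW.elim (fun e => e ▸ inferInstance) normal_of_index_eq_two
  refine (h.irr _ le_normalizer_of_normal le_normalizer_of_normal).resolve_right fun h1 => ?_
  have c : ∀ t ∈ T, t ∈ W → ∀ x ∈ X, t * x * t⁻¹ * x⁻¹ ∈ D := fun t ht htW x hx =>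
    h1 (mem_inf.2 ⟨mul_mem ((mem_normalizer_iff.1 (h.nT ht) x).1 hx) (inv_mem hx),
      commutator_mem_commutator htW (hX hx)⟩)
  have c' : ∀ t ∈ T, t ∈ W → ∀ x ∈ X, t * x * t⁻¹ ∈ zpowers x ⊔ D := fun t ht htW x hx => by
    rw [← inv_mul_cancel_right (t * x * t⁻¹) x]
    exact mul_mem (mem_sup_right (c t ht htW x hx)) (mem_sup_left (mem_zpowers x))
  obtain ⟨u, hu, huD⟩ := SetLike.not_le_iff_exists.1 fun e => h.not_le X.one_mem (e.trans le_sup_right)
  refine h.no_line hu huD fun s hs => by_contra fun h2 => ?_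
  have hsW : s ∉ W := fun e => h2 (c' s hs e u hu)
  have h3 := hW.resolve_left fun e => hsW (e ▸ mem_top s)
  have hu' := (mem_normalizer_iff.1 (h.nT hs) u).1 hu
  refine h.no_line (mul_mem hu hu') (fun e => h2 ?_) fun t ht => ?_
  · rw [← inv_mul_cancel_left u (s * u * s⁻¹)]
    exact mul_mem (mem_sup_left (inv_mem (mem_zpowers u))) (mem_sup_right e)
  by_cases htW : t ∈ W
  · exact c' t ht htW _ (mul_mem hu hu')
  have d1 := (mem_normalizer_iff.1 (h.nD hs) _).1 (c _ (mul_mem (inv_mem hs) ht)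
    ((mul_mem_iff_of_index_two h3).2 (by simp [hsW, htW])) u hu)
  have d2 := (mem_normalizer_iff.1 (h.nX hu') _).1 (c _ (mul_mem ht hs)
    ((mul_mem_iff_of_index_two h3).2 (by simp [hsW, htW])) u hu)
  convert mul_mem (mem_sup_right (mul_mem (mul_mem d1 d2) (h.cm hu' hu)))
    (mem_sup_left (mem_zpowers (u * (s * u * s⁻¹)))) using 1
  group

theorem cyclic_of_le_commutator {V : Type*} [Group V] [Finite V] {r : ℕ} [hr : Fact r.Prime]
    (hc : IsMulCommutative V) (he : ∀ v : V, v ^ r = 1) (hV : Nat.card V ≤ r ^ 2) (h2 : p ≠ 2)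
    {B : Subgroup (MulAut V)} (hB : IsPGroup p B) (h : B ≤ commutator (MulAut V)) : IsCyclic B := by
  obtain ⟨n, hn⟩ := (show IsPGroup r V from fun v => ⟨1, by rw [pow_one, he]⟩).exists_card_eq
  have hn2 : n ≤ 2 := (Nat.pow_le_pow_iff_right hr.out.one_lt).1 (hn ▸ hV)
  by_cases h1 : n ≤ 1
  · have : IsCyclic V := isCyclic_of_card_dvd_prime (p := r) (by
      rw [hn]; exact (pow_dvd_pow r h1).trans (pow_one r).dvd)
    rw [show B = ⊥ from eq_bot_iff.2 (h.trans (commutator_le.2 fun a _ b _ =>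
      commutatorElement_eq_one_iff_mul_comm.2 (H48.mulAut_mul_comm_of_isCyclic this _ _)))]
    infer_instance
  obtain rfl : n = 2 := by omega
  obtain ⟨ψ, hψ⟩ := H48.exists_mulAut_matrix hc he hn
  let σ : B →* SL(2, ZMod r) :=
    { toFun := fun w => ⟨ψ w, H48.det_eq_one_of_mem_commutator ψ (h w.2)⟩
      map_one' := Subtype.ext (by simp)
      map_mul' := fun a b => Subtype.ext (by simp; rfl) }
  have hσ : Function.Injective σ := fun a b e => Subtype.ext (hψ (congrArg Subtype.val e))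
  obtain ⟨S, hS⟩ := (hB.of_equiv (MonoidHom.ofInjective hσ)).exists_le_sylow
  have : IsCyclic (S : Subgroup SL(2, ZMod r)) := by
    by_cases e : p = r
    · subst e
      exact isCyclic_of_prime_card (p := p) (by rw [H10.card_sylow_SL p S]; simp)
    · exact Cfsg.Agent.S0262.result r p h2 e S
  exact isCyclic_of_injective ((inclusion hS).comp σ.rangeRestrict)
    ((inclusion_injective hS).comp fun a b e => hσ (congrArg Subtype.val e))

theorem mem_of_rank (hr : PRankLE p 2 Y) {C V : Subgroup Y} (hC : ∀ x ∈ C, x ^ p = 1)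
    (hc : p ^ 2 ≤ Nat.card C) (hCV : C ≤ V) {y : Y} (hy : y ^ p = 1) (hyC : C ≤ centralizer {y}) :
    y ∈ V := by_contra fun hyV => by
  have h1 : IsPGroup p C := fun x => ⟨1, Subtype.ext (by simpa using hC x x.2)⟩
  have lt : ∀ z ∈ C, ¬ C ≤ zpowers z := fun z hz e => by
    have h2 := (hc.trans (card_le_of_le e)).trans ((Nat.card_zpowers z).le.trans
      (Nat.le_of_dvd hp.out.pos (orderOf_dvd_of_pow_eq_one (hC z hz))))
    nlinarith [hp.out.two_le]
  obtain ⟨⟨z, hz⟩, z1⟩ := ne_bot_iff_exists_ne_one.1 (H49.inf_centralizer_ne_bot_of_le_normalizer h1 h1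
    (fun e => lt 1 C.one_mem (e.le.trans bot_le)) le_normalizer)
  obtain ⟨u, hu, huz⟩ := SetLike.not_le_iff_exists.1 (lt z hz.1)
  exact not_three hr (MonoidHom.id Y) (mem_centralizer_iff.1 hz.2 u hu).symm
    (mem_centralizer_singleton_iff.1 (hyC hz.1)) (mem_centralizer_singleton_iff.1 (hyC hu))
    (hC z hz.1) (hC u hu) hy (zpowers z) V (fun e => z1 (Subtype.ext e)) (mem_zpowers z) huz
    (hCV hz.1) (hCV hu) hyV

theorem XD.normal_of_le (h : XD p X T D P) (h2 : p ≠ 2) (hr : PRankLE p 2 Y) {Q : Subgroup Y}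
    [Q.Normal] (hQ : IsPGroup p Q) (hX : X ≤ Q) : X.Normal := by
  have e : ∀ x ∈ X, x ^ p = 1 := fun x hx => by
    obtain ⟨k, hk⟩ := h.two x hx
    obtain ⟨l, hl⟩ := hQ ⟨x ^ p, pow_mem (hX hx) p⟩
    exact orderOf_eq_one_iff.1 (Nat.eq_one_of_dvd_coprimes (Nat.coprime_pow_primes k l Nat.prime_two
      hp.out h2.symm) (orderOf_dvd_of_pow_eq_one hk) (orderOf_dvd_of_pow_eq_one (congrArg Subtype.val hl)))
  set N := Q ⊓ normalizer (X : Set Y)
  have hXN : X ≤ N := le_inf hX le_normalizer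
  have h1 : ⁅X, N⁆ ≤ D := (h.irr _ (normalizer_commutator_ge_left _ _) (H2.le_normalizer_commutator h.nT
    ((le_inf le_normalizer_of_normal (h.nT.trans le_normalizer)).trans
      inf_normalizer_le_normalizer_inf))).elim
    (fun h3 => absurd h3 (H49.commutator_lt_of_isPGroup hQ.to_inf_left hXN inf_le_right fun e => h.not_le X.one_mem (e.le.trans bot_le)).not_ge)
    fun h3 => (le_inf (commutator_le_left_of_le_normalizer inf_le_right) le_rfl).trans h3
  have key : ∀ g ∈ normalizer (N : Set Y), g ∈ normalizer (X : Set Y) := fun g hg =>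
    mem_normalizer_fintype fun x hx => by
      have h3 := (mem_normalizer_iff.1 hg x).1 (hXN hx)
      have h4 := H49.card_le_card_centralizer_mul X D _ fun w hw => h1 (commutator_mem_commutator hw h3)
      rw [← H1.card_mul_relIndex_of_le h.DX, h.idx, mul_comm] at h4
      exact mem_of_rank hr (fun x hx => e x (mem_inf.1 hx).1) (Nat.le_of_mul_le_mul_right h4 Nat.card_pos) inf_le_left
        (by rw [conj_pow, e x hx]; simp) inf_le_right
  have h3 : N = Q := by_contra fun h3 => by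
    obtain ⟨g, h4, h5, h6⟩ := H70.exists_mem_normalizer_of_lt hQ (lt_of_le_of_ne inf_le_left h3)
    exact h5 ⟨h4, key g h6⟩
  exact normalizer_eq_top_iff.1 (eq_top_iff.2 fun g _ => key g (h3 ▸ le_normalizer_of_normal (mem_top g)))

theorem XD.le_pCore (h : XD p X T D P) (h2 : p ≠ 2) (hr : IsStronglyQuasithin Y) (hO : pCore 2 Y = ⊥)
    (hE : X ≤ centralizer (layer Y : Set Y)) : X ≤ pCore p Y := by
  have rep : ∀ r : ℕ, r.Prime → ∃ K : Subgroup Y, K.Normal ∧ X ≤ K ∧
      ∀ x ∈ K, (orderOf x).Coprime r → x ∈ centralizer (pCore r Y : Set Y) := fun r hr' => by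
    by_cases e : r = 2
    · exact ⟨⊤, inferInstance, le_top, fun x _ _ => by simp [e, hO, mem_centralizer_iff]⟩
    have := Fact.mk hr'
    obtain ⟨V, _, _, ρ, h3, h4, h5, h6⟩ := exists_rep e (pCore r Y) H1.isPGroup_pCore
      (H49.pRankLE_subgroup _ (hr r hr' e))
    exact ⟨ρ.ker, inferInstance, h.le_ker ρ (cyclic_of_le_commutator h3 h4 h5 h2 (h.pP.map ρ)
      ((map_mono (h.PX.trans (h.le_comm (.inl rfl) le_top))).trans
        ((map_commutator _ _ _).le.trans (commutator_mono le_top le_top)))), fun x hx h7 => h6 x h7 hx⟩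
  obtain ⟨K₀, _, k1, k2⟩ := rep p hp.out
  set K := K₀ ⊓ centralizer (layer Y : Set Y) ⊓
    ⨅ r : {r : ℕ // r.Prime ∧ r ≠ p}, centralizer (pCore r Y : Set Y)
  have : K.Normal := by
    have := Subgroup.normal_iInf_normal fun r : {r : ℕ // r.Prime ∧ r ≠ p} =>
      (inferInstance : (centralizer (pCore r Y : Set Y)).Normal)
    infer_instance
  have hXK : X ≤ K := le_inf (le_inf k1 hE) (le_iInf fun r => by
    obtain ⟨K', -, k3, k4⟩ := rep r r.2.1
    exact h.gen.trans ((closure_le _).2 fun x hx => k4 x (k3 hx.1) (Nat.Coprime.coprime_dvd_left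
      (orderOf_dvd_of_pow_eq_one hx.2) ((Nat.coprime_primes hp.out r.2.1).2 r.2.2.symm))))
  have h3 : IsPGroup p (K ⧸ center K) := IsPGroup.of_card (Nat.eq_prime_pow_of_unique_prime_dvd
    Nat.card_pos.ne' fun {r} hr' hd => by_contra fun e => by
      have := Fact.mk hr'
      let S : Sylow r K := default
      refine S.not_dvd_index (hd.trans (index_dvd_of_le fun x hx => mem_center_iff.2 fun y => ?_))
      have h4 : IsPGroup r (zpowers (x : Y)) :=
        (S.isPGroup'.map K.subtype).to_le (zpowers_le.2 (mem_map_of_mem _ hx))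
      obtain ⟨k, hk⟩ := S.isPGroup' ⟨x, hx⟩
      have h5 : (x : Y) ∈ centralizer (generalizedFittingSubgroup Y : Set Y) := by
        rw [H23.fStar_def, H1.fitting_eq_iSup_pCore]
        refine (commutator_eq_bot_iff_le_centralizer.1 (H23.commutator_eq_bot_symm
          (H23.commutator_sup_eq_bot_iff.2 ⟨?_, H23.commutator_iSup_eq_bot_iff.2 fun q => ?_⟩)))
          (mem_zpowers _) <;>
          refine H23.commutator_eq_bot_symm (commutator_eq_bot_iff_le_centralizer.2 (zpowers_le.2 ?_))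
        · exact x.2.1.2
        by_cases hq : (q : ℕ) = p
        · exact hq ▸ k2 x x.2.1.1 (Nat.Coprime.coprime_dvd_left (orderOf_dvd_of_pow_eq_one
            (congrArg Subtype.val (congrArg Subtype.val hk) :))
            (Nat.Coprime.pow_left k ((Nat.coprime_primes hr' hp.out).2 e)))
        · exact mem_iInf.1 x.2.2 ⟨q, q.2, hq⟩
      exact Subtype.ext (mem_centralizer_iff.1 (mem_iInf.1 y.2.2 ⟨r, hr', e⟩) x
        (H1.le_pCore_of_le_fitting h4 (zpowers_le.2 (H23.centralizer_fStar_le_fitting h5))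
          (mem_zpowers _))).symm)
  have h4 : K ≤ fittingSubgroup Y := H1.le_fitting (Group.of_quotient_center_nilpotent h3.isNilpotent)
  exact h.gen.trans ((closure_le _).2 fun x hx => H1.le_pCore_of_le_fitting
    (H9.isPGroup_zpowers_of_pow (a := 1) ((pow_one p).symm ▸ hx.2)) (zpowers_le.2 (h4 (hXK hx.1))) (mem_zpowers x))

local notation "π" => QuotientGroup.mk' (solvableRadical Y)

theorem cc_of_component {J : Subgroup Y} (hJ : IsComponent J) : J ∈ calC Y := by
  obtain ⟨L, h1, h2⟩ := exists_cc_le hJ.1 (H23.IsQuasisimple.not_isSolvable hJ.2)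
  rcases H23.IsComponent.le_or_commutator_eq_bot hJ h1.2.2.1 with h | h
  · exact le_antisymm h2 h ▸ h1
  · exact absurd (h1.2.1.symm.trans (H23.commutator_eq_bot_of_le h2 le_rfl h)) h1.1

theorem cent_of_map {J : Subgroup Y} (hJ : IsComponent J) {c : Y}
    (h : π c ∈ centralizer ((J.map π : Subgroup _) : Set (Y ⧸ solvableRadical Y))) :
    c ∈ centralizer (J : Set Y) := by
  refine commutator_eq_bot_iff_le_centralizer.1 (H23.commutator_eq_bot_of_perfect
    (H23.IsComponent.commutator_self hJ) (H23.commutator_eq_bot_of_le (A := solvableRadical Y) ?_ le_rfl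
      (H23.commutator_eq_bot_symm (H23.IsComponent.commutator_eq_bot_of_isSolvable hJ inferInstance
        le_normalizer_of_normal)))) (mem_zpowers c)
  rw [← QuotientGroup.ker_mk' (solvableRadical Y), ← Subgroup.map_eq_bot_iff, map_commutator,
    MonoidHom.map_zpowers]
  exact commutator_eq_bot_iff_le_centralizer.2 (zpowers_le.2 h)

omit [Finite Y] in
theorem map_eq_one_of_mem_commutator {C : Type*} [Group C] [IsCyclic C] (g : Y →* C) {x : Y}
    (hx : x ∈ commutator Y) : g x = 1 :=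
  (commutator_le.2 fun a _ b _ => (map_commutatorElement g a b).trans
    (commutatorElement_eq_one_iff_mul_comm.2 (mul_comm' _ _)) : commutator Y ≤ g.ker) hx

theorem exists_fixed {J : Subgroup Y} (hd : p ∣ Nat.card J) {x : Y} (hx : x ^ p = 1)
    (hn : x ∈ normalizer (J : Set Y)) : ∃ u ∈ J, u ≠ 1 ∧ u ^ p = 1 ∧ Commute u x := by
  let _ : MulAction (zpowers x) J :=
    MulAction.compHom J (J.normalizerMonoidHom.comp (inclusion (zpowers_le.2 hn)))
  have h1 := (H9.isPGroup_zpowers_of_pow (a := 1) ((pow_one p).symm ▸ hx)).card_modEq_card_fixedPoints J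
  have h2 : Nat.card (MulAction.fixedPoints (zpowers x) J) =
      Nat.card ((centralizer (zpowers x : Set Y)).subgroupOf J) :=
    Nat.card_congr (Equiv.setCongr (Set.ext fun u => ⟨fun h => mem_centralizer_iff.2 fun y hy =>
      mul_inv_eq_iff_eq_mul.1 (congrArg Subtype.val (h ⟨y, hy⟩) :), fun h y => Subtype.ext
        (mul_inv_eq_iff_eq_mul.2 (mem_centralizer_iff.1 h y y.2))⟩))
  obtain ⟨u, h3, h4⟩ := H1.exists_mem_orderOf_eq_prime hp.out
    (h2 ▸ (Nat.modEq_zero_iff_dvd.1 (h1.symm.trans (Nat.modEq_zero_iff_dvd.2 hd))))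
  refine ⟨u, u.2, fun e => hp.out.ne_one ?_, ?_, (mem_centralizer_iff.1 h3 x (mem_zpowers x)).symm⟩
  · rw [← h4, show u = 1 from Subtype.ext e, orderOf_one]
  · rw [← h4, ← Subgroup.orderOf_coe, pow_orderOf_eq_one]

theorem exists_noncentral (h2 : p ≠ 2) {J : Subgroup Y} (hJ : ⁅J, J⁆ = J) (hd : p ∣ Nat.card J) :
    ∃ u ∈ J, u ^ p = 1 ∧ u ∉ centralizer (J : Set Y) := by
  by_contra! h
  obtain ⟨S, N, _, h6⟩ := Cfsg.Agent.S1947.result (G := J) (p := p) 1 fun a ha => by
    rw [Subgroup.upperCentralSeries_one, mem_center_iff]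
    exact fun b => Subtype.ext (mem_centralizer_iff.1 (h a a.2
      (congrArg Subtype.val (ha.resolve_right fun h => h2 h.1))) b b.2)
  have h8 : N = ⊤ := eq_top_iff.2 (perfect_le_of_le_sup_of_normalizer (by
    simpa using perfect_subgroupOf hJ le_rfl) (H1.isSolvable_of_isPGroup S.isPGroup')
    (by rw [normalizer_eq_top]; exact le_top) h6.sup_eq_top.ge)
  refine S.not_dvd_index ?_
  rwa [h6.index_eq_card, h8, card_top]

theorem XD.component (h : XD p X T D P) (h2 : p ≠ 2) (hr : IsStronglyQuasithin Y)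
    (hO : pCore 2 Y = ⊥) (hT : ¬ 2 ∣ T.index) {J : Subgroup Y} (hJ : IsComponent J)
    (hS : H61.KG.Shape (J.map π)) : X ≤ centralizer (J : Set Y) ∨ X ≤ J ⊔ T := by
  have hc := cc_of_component hJ
  have hW := cc_index hr hc
  have nW : (normalizer (J : Set Y)).Normal := hW.elim (fun e => e ▸ inferInstance) normal_of_index_eq_two
  have hX : X ≤ normalizer (J : Set Y) := hW.elim (fun e => e ▸ le_top) fun e =>
    h.gen.trans ((closure_le _).2 fun x hx => H1.mem_of_coprime_index (e ▸ Nat.Coprime.coprime_dvd_left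
      (orderOf_dvd_of_pow_eq_one hx.2) ((Nat.coprime_primes hp.out Nat.prime_two).2 h2)))
  by_cases hd : p ∣ Nat.card (J.map π)
  swap
  · obtain ⟨C, _, _, f, hf⟩ := hS.exists_hom
    refine .inl (h.gen.trans ((closure_le _).2 fun x hx => cent_of_map hJ ?_))
    have h3 := map_le_normalizer (le_refl (normalizer (J : Set Y))) π
    obtain ⟨y, hy, e⟩ := (map_subtype_commutator _).ge ((map_commutator _ _ _).le.trans
      (commutator_mono h3 h3) (mem_map_of_mem π (h.le_comm hW hX hx.1)))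
    have h4 : y ^ p = 1 := Subtype.ext (by rw [coe_pow, show (y : _) = π x from e, ← map_pow, hx.2]; rfl)
    have h5 : (J.map π).normalizerMonoidHom y = 1 := by_contra fun h5 => hd (hf p hp.out (by
      rw [← orderOf_eq_prime (p := p) (by rw [← map_pow, h4, map_one]) h5]
      exact H1.orderOf_dvd_card_of_mem (map_eq_one_of_mem_commutator (f.comp _) hy)))
    exact e ▸ (normalizerMonoidHom_ker _).le h5
  have hd' : p ∣ Nat.card J := hd.trans (card_map_dvd J _)
  have hrp := hr p hp.out h2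
  right
  rcases hW with hW | hW
  · have : J.Normal := normalizer_eq_top_iff.1 hW
    have : (J.map π).Normal := Normal.map this _ (QuotientGroup.mk'_surjective _)
    obtain ⟨C, _, _, f, hf⟩ := hS
    let β := (QuotientGroup.mk' (Inn (J.map π))).comp ((MulAut.conjNormal (H := J.map π)).comp π)
    have h3 : P.map β ≤ f.ker := map_le_iff_le_comap.2 fun x hx =>
      map_eq_one_of_mem_commutator (f.comp β) (h.le_comm (.inl rfl) le_top (h.PX hx))
    have h4 : IsCyclic ((P.map β).subgroupOf f.ker) := hf.cyc p hp.out h2 _ (h.pP.map β).comap_subtype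
    have h5 := h.le_ker β (isCyclic_of_surjective _ (subgroupOfEquivOfLe h3).surjective)
    have h6 : P ≤ J ⊔ centralizer (J : Set Y) := fun x hx => by
      obtain ⟨⟨_, j, hj, rfl⟩, e⟩ := (QuotientGroup.eq_one_iff _).1 (h5 (h.PX hx))
      rw [← mul_inv_cancel_left j x]
      refine mul_mem (mem_sup_left hj) (mem_sup_right (cent_of_map hJ (mem_centralizer_iff.2 fun y hy => ?_)))
      have h2 : π j * y * (π j)⁻¹ = π x * y * (π x)⁻¹ :=
        (congrArg Subtype.val (DFunLike.congr_fun e ⟨y, hy⟩) :)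
      rw [map_mul, map_inv, mul_assoc, eq_inv_mul_iff_mul_eq, ← mul_assoc, ← mul_assoc, h2,
        inv_mul_cancel_right]
    obtain ⟨S, s1, s2, s3⟩ := exists_pgroup_map_eq (QuotientGroup.mk' J) (A := centralizer (J : Set Y))
      (h.pP.map _) ((map_mono h6).trans (by
        rw [Subgroup.map_sup, QuotientGroup.map_mk'_self, bot_sup_eq]))
    have h7 : IsCyclic S := by_contra fun h7 => by
      obtain ⟨A, a1, -, a2, a3⟩ := H48.exists_normal_p2_of_not_isCyclic h2 s2 h7
      obtain ⟨u, u1, u2, u3⟩ := exists_noncentral h2 hc.2.1 hd'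
      exact u3 (mem_of_rank hrp a2.2 a3.ge (a1.trans s1) u2
        ((a1.trans s1).trans (centralizer_le (by simpa using u1))))
    exact ((h.le_ker _ (s3 ▸ isCyclic_of_surjective _ (MonoidHom.subgroupMap_surjective _ S))).trans
      (QuotientGroup.ker_mk' J).le).trans le_sup_left
  obtain ⟨t, ht, htW⟩ := SetLike.not_le_iff_exists.1 fun e => hT (hW ▸ index_dvd_of_le e)
  have hne : MulAut.conj t • J ≠ J := fun e => htW (H1.mem_normalizer_iff_conj_smul_eq.2 e)
  have hs := (cc_nonnormal hr hO hc hne).1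
  have hcm := commutator_eq_bot_iff_le_centralizer.1
    (H23.IsComponent.commutator_eq_bot_of_ne (H23.IsComponent.smul hJ _) hJ hne)
  refine h.gen.trans ((closure_le _).2 fun x hx => by_contra fun h3 => ?_)
  obtain ⟨u, u1, u2, u3, u4⟩ := exists_fixed hd' hx.2 (hX hx.1)
  obtain ⟨w, w1, w2, w3, w4⟩ := exists_fixed (J := MulAut.conj t • J) ((H1.card_conj_smul t J).symm ▸ hd')
    hx.2 (by rw [H1.normalizer_conj_smul, nW.conj_smul_eq_self]; exact hX hx.1)
  refine not_three hrp (MonoidHom.id Y) (mem_centralizer_iff.1 (hcm w1) u u1) u4 w4 u3 w3 hx.2 J (J ⊔ T)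
    u2 u1 (fun e => w2 ?_) (mem_sup_left u1) ?_ h3
  · have h4 := (inferInstance : (center J).Normal).eq_bot_or_eq_top.resolve_right
      (H23.IsQuasisimple.center_ne_top hJ.2)
    exact congrArg Subtype.val (mem_bot.1 (h4.le (show (⟨w, e⟩ : J) ∈ center J from
      mem_center_iff.2 fun y => Subtype.ext (mem_centralizer_iff.1 (hcm w1) y y.2))))
  · rw [← mul_inv_cancel_left t (w : Y), ← mul_inv_cancel_right (t⁻¹ * w) t]
    exact mul_mem (mem_sup_right ht) (mul_mem (mem_sup_left (H1.mem_conj_smul_iff.1 w1))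
      (mem_sup_right (inv_mem ht)))

theorem mem_of_odd {A B : Subgroup Y} (hB : IsPGroup 2 B) (hn : B ≤ normalizer (A : Set Y)) {x : Y}
    (hx : x ∈ B ⊔ A) (ho : Odd (orderOf x)) : x ∈ A := by
  have := (normal_subgroupOf_iff_le_normalizer (le_sup_right : A ≤ B ⊔ A)).2 (sup_le hn le_normalizer)
  obtain ⟨k, hk⟩ := hB.exists_card_eq
  refine H1.mem_of_coprime_index (N := A.subgroupOf (B ⊔ A)) (x := ⟨x, hx⟩) ?_
  rw [← Subgroup.orderOf_coe]
  exact Nat.Coprime.coprime_dvd_right (((H1.relIndex_sup_of_le_normalizer hn).dvd.trans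
    (relIndex_dvd_card _ _)).trans hk.dvd) (Nat.Coprime.pow_right k (Nat.coprime_two_right.2 ho))

theorem cube_facts (h2 : p ≠ 2) (hc : Nat.card Y = p ^ 3) (hna : ¬ IsMulCommutative Y) :
    (frattini Y).index = p ^ 2 ∧ frattini Y < closure {x : Y | x ^ p = 1} ∧
      (closure {x : Y | x ^ p = 1} = ⊤ → ∀ x : Y, x ^ p = 1) := by
  have hG : IsPGroup p Y := IsPGroup.of_card hc
  have hnc : ¬ IsCyclic Y := fun h => hna inferInstance
  have h1 := H5.sq_dvd_index_of_not_isCyclic hG hnc le_rfl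
  have h3 := (frattini Y).card_mul_index
  obtain ⟨k, hk⟩ := (hG.to_subgroup (frattini Y)).exists_card_eq
  obtain ⟨l, hl⟩ := hG.index (frattini Y)
  have k0 : k ≠ 0 := fun e => hna ((H1.frattini_eq_bot_iff_of_isPGroup hG).1
    (card_eq_one.1 (by rw [hk, e, pow_zero]))).1
  rw [hk, hl, hc, ← pow_add, Nat.pow_right_inj hp.out.one_lt] at h3
  rw [hl, Nat.pow_dvd_pow_iff_le_right hp.out.one_lt] at h1
  obtain ⟨rfl, rfl⟩ : k = 1 ∧ l = 2 := by omega
  rw [pow_one] at hk
  refine ⟨hl, lt_of_le_not_ge (fun x hx => subset_closure (orderOf_dvd_iff_pow_eq_one.1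
    (hk ▸ H1.orderOf_dvd_card_of_mem hx))) fun e => ?_, fun e x => ?_⟩
  · obtain ⟨A, -, a1, a2⟩ := H5.exists_normal_elementary_sq h2 hG hnc
    have := card_le_of_le (le_trans (fun x hx => subset_closure (a1.2 x hx)) e : A ≤ _)
    nlinarith [hp.out.two_le]
  have h4 := (H1.commutator_le_frattini hG).trans (H5.le_center_of_card_eq_prime hG _ hk)
  have hx : x ∈ closure {x : Y | x ^ p = 1} := e ▸ mem_top x
  induction hx using closure_induction with
  | mem x hx => exact hx
  | one => simp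
  | mul x y _ _ hx hy =>
    have := mem_center_iff.1 (h4 (commutator_mem_commutator (mem_top y) (mem_top x)))
    exact H5.mul_pow_eq_one_of_class_two (this x) (this y) (hp.out.odd_of_ne_two h2) hx hy
  | inv x _ hx => rw [inv_pow, hx, inv_one]

omit hp in
theorem exists_XD (hX : X ∈ Xi T) : ∃ p : ℕ, p.Prime ∧ p ≠ 2 ∧ ∃ P : Subgroup Y,
    XD p X T (twoPhiCore X) P ∧ pCoreOf 2 X ≤ twoPhiCore X := by
  obtain ⟨h1, h2, -, ⟨p, hp, hp2, h3⟩, h4⟩ := hX
  have := Fact.mk hp
  set q := QuotientGroup.mk' (pCore 2 X)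
  have hq : Function.Surjective q := QuotientGroup.mk'_surjective _
  have hQ : IsPGroup p (X ⧸ pCore 2 X) := h3.elim (fun h => .of_card h.1) fun h => .of_card h.1
  have hn : ∀ K : Subgroup (X ⧸ pCore 2 X), K.Characteristic →
      T ≤ normalizer (((K.comap q).map X.subtype : Subgroup Y) : Set Y) := fun K hK =>
    have : (K.comap q).Characteristic := Characteristic.comap_quotient_mk hK
    h2.trans (H1.normalizer_le_normalizer_map_subtype_of_characteristic X _)
  have hD : (twoPhiCore X).subgroupOf X = (frattini _).comap q :=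
    comap_map_eq_self_of_injective X.subtype_injective _
  have DX : twoPhiCore X ≤ X := map_subtype_le _
  have hO : pCoreOf 2 X ≤ twoPhiCore X := map_mono ((QuotientGroup.ker_mk' _).ge.trans (ker_le_comap _ _))
  obtain ⟨h5, h6⟩ : (frattini (X ⧸ pCore 2 X)).index = p ^ 2 ∧ ∀ y : X ⧸ pCore 2 X, y ^ p = 1 := by
    rcases h3 with h | h
    · exact ⟨by rw [(H1.frattini_eq_bot_iff_of_isPGroup hQ).2 h.2, index_bot, h.1], h.2.2⟩
    obtain ⟨c1, c2, c3⟩ := cube_facts hp2 h.1 h.2
    refine ⟨c1, c3 (comap_injective hq (map_injective X.subtype_injective ?_))⟩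
    rw [comap_top, ← MonoidHom.range_eq_map, range_subtype]
    exact (h4 _ (map_mono (comap_mono c2.le)) (map_subtype_le _)
      (hn _ (H5.characteristic_closure_pow_eq_one p))).resolve_left fun e =>
        c2.ne' (comap_injective hq (map_injective X.subtype_injective e))
  have two : ∀ x ∈ X, ∃ k : ℕ, (x ^ p) ^ 2 ^ k = 1 := fun x hx =>
    (H1.isPGroup_pCore (p := 2) ⟨(⟨x, hx⟩ : X) ^ p, (QuotientGroup.eq_one_iff _).1 (h6 (q ⟨x, hx⟩))⟩).imp
      fun k hk => congrArg Subtype.val (congrArg Subtype.val hk)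
  obtain ⟨S, -, s1, s2⟩ := exists_pgroup_map_eq q (A := ⊤) (hQ.to_subgroup ⊤) (map_top_of_surjective q hq).ge
  have top : ∀ K : Subgroup X, K.map q = ⊤ → X ≤ pCoreOf 2 X ⊔ K.map X.subtype := fun K hK => by
    have h7 := congrArg (fun K => (comap q K).map X.subtype) hK
    simp only [comap_map_eq, comap_top, ← MonoidHom.range_eq_map, range_subtype, Subgroup.map_sup] at h7
    rw [QuotientGroup.ker_mk', sup_comm] at h7
    exact h7.ge
  refine ⟨p, hp, hp2, S.map X.subtype, ⟨h2, hn _ inferInstance, DX, map_subtype_le _, fun N n1 n2 => ?_,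
    by rw [relIndex, hD, index_comap_of_surjective _ hq, h5],
    fun x hx => mem_map_of_mem X.subtype (x := ⟨x, hx⟩ ^ p) (H1.pow_mem_frattini hQ (q ⟨x, hx⟩)), ?_, two, ?_,
    s1.map _, (top S s2).trans (sup_le (hO.trans le_sup_right) le_sup_left)⟩, hO⟩
  · refine (h4 (X ⊓ N ⊔ twoPhiCore X) le_sup_right (sup_le inf_le_left DX) ((le_inf ((le_inf h2 n2).trans
      inf_normalizer_le_normalizer_inf) (hn _ inferInstance)).trans
        (normalizer_inf_normalizer_le_normalizer_sup _ _))).symm.imp (fun e => ?_) fun e => le_sup_left.trans e.le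
    have h7 := top ((X ⊓ N).subgroupOf X) (H1.eq_top_of_sup_eq_top_of_le_frattini le_rfl (by
      rw [← map_comap_eq_self_of_surjective hq (frattini _), ← Subgroup.map_sup, ← hD,
        ← subgroupOf_sup inf_le_left DX, e, subgroupOf_self, map_top_of_surjective q hq]))
    rw [map_subgroupOf_eq_of_le inf_le_left] at h7
    exact h1.ge.trans ((closure_le _).2 fun x hx => (mem_of_odd (H1.isPGroup_pCoreOf X)
      ((map_subtype_le _).trans ((le_inf le_normalizer n1).trans inf_normalizer_le_normalizer_inf))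
      (h7 hx.1) hx.2).2)
  · rw [← map_subtype_commutator]
    exact map_mono (map_le_iff_le_comap.1 ((map_commutator _ _ _).le.trans
      ((commutator_mono le_top le_top).trans (H1.commutator_le_frattini hQ))))
  · refine h1.ge.trans (closure_mono fun x hx => ⟨hx.1, ?_⟩)
    obtain ⟨k, hk⟩ := two x hx.1
    exact orderOf_eq_one_iff.1 (Nat.eq_one_of_dvd_coprimes
      (Nat.Coprime.pow_right k (Nat.coprime_two_right.2 hx.2)) (orderOf_pow_dvd p)
      (orderOf_dvd_of_pow_eq_one hk))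

omit hp in
theorem s1822 (hQ : IsQTKE Y) (hS : ∀ H ∈ calH Y, ∀ J : Subgroup ((H ⧸ pCore 2 H) ⧸ solvableRadical _),
    IsComponent J → H61.KG.Shape J) (T : Sylow 2 Y) (hX : X ∈ XiStar (T : Subgroup Y)) :
    maxTwoLocalsContaining (X ⊔ (T : Subgroup Y)) = {normalizer (X : Set Y)} := by
  obtain ⟨p, hp, h2, P, d, hO⟩ := exists_XD hX.1
  have := Fact.mk hp
  have hU : X ⊔ T ∈ calH Y := hX.1.2.2.1
  refine max_eq_singleton hU (fun e => d.not_le X.one_mem (le_trans ?_ bot_le)) fun M hM g hg => ?_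
  · have h3 : pCoreOf 2 (X ⊔ T) ⊓ X ≤ ⊥ :=
      (H1.pCoreOf_inf_le le_sup_left).trans (by rw [pCoreOf, e, Subgroup.map_bot])
    refine (le_inf ((le_inf le_sup_left (commutator_eq_bot_iff_le_centralizer.1 (eq_bot_iff.2 ((le_inf
      (commutator_le_right_of_le_normalizer (le_sup_left.trans (H1.le_normalizer_pCoreOf _)))
      (commutator_le_left_of_le_normalizer ((map_subtype_le _).trans (sup_le le_normalizer d.nT)))).trans
        h3)))).trans (H20.charP_of_evenChar hQ.2.2 T le_sup_right hU)) le_rfl).trans h3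
  have hH := calH_of_twoLocal hM.1.1
  have hXM : X ≤ M := le_sup_left.trans hM.2
  have hTM : (T : Subgroup Y) ≤ M := le_sup_right.trans hM.2
  set f := QuotientGroup.mk' (pCore 2 M)
  have hf : Function.Surjective f := QuotientGroup.mk'_surjective _
  have hk : f.ker ≤ (T : Subgroup Y).subgroupOf M :=
    (QuotientGroup.ker_mk' _).le.trans (H1.pCore_le_sylow (T.subtype hTM))
  have d1 := d.subgroupOf hXM hTM
  have d2 := d1.map f fun x hx => hO (H1.pCoreOf_inf_le hXM
    ⟨mem_map_of_mem _ ((QuotientGroup.ker_mk' _).le hx.2), hx.1⟩)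
  have hr := sqt_quot (sqt_of_calH hQ.1 hH)
  have h3 := d2.normal_of_le h2 (hr p hp h2) H1.isPGroup_pCore (d2.le_pCore h2 hr H1.pCore_quotient_pCore
    (commutator_eq_bot_iff_le_centralizer.1 (H23.commutator_eq_bot_symm
      (H23.commutator_sSup_eq_bot_iff.2 fun J hJ => H23.commutator_eq_bot_symm
        (commutator_eq_bot_iff_le_centralizer.2 ?_)))))
  · refine mem_normalizer_fintype fun x hx => (d.gen.trans ((closure_le
      (X.comap (MulAut.conj g).toMonoidHom)).2 fun x hx => ?_)) hx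
    have h4 : (⟨g, hg⟩ * ⟨x, hXM hx.1⟩ * ⟨g, hg⟩⁻¹ : M) ∈ ((X.subgroupOf M).map f).comap f :=
      (h3.comap f).conj_mem _ (le_comap_map _ _ hx.1) _
    rw [comap_map_eq, sup_comm] at h4
    refine mem_of_odd (H1.isPGroup_pCore.to_le (QuotientGroup.ker_mk' _).le) (hk.trans d1.nT) h4
      ((hp.odd_of_ne_two h2).of_dvd_nat (orderOf_dvd_of_pow_eq_one (Subtype.ext ?_)))
    simp [conj_pow, hx.2]
  refine (d2.component h2 hr H1.pCore_quotient_pCore (fun e => T.not_dvd_index (e.trans
    ((index_map_dvd _ hf).trans (relIndex_dvd_index_of_le hTM)))) hJ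
    (hS M hH _ (cc_component (cc_of_component hJ)))).resolve_right fun e => ?_
  obtain ⟨L, l1, l2⟩ := exists_cc_le (hJ.1.comap f) fun h => by
    have h3 := H1.isSolvable_map h f
    rw [map_comap_eq_self_of_surjective hf] at h3
    exact H23.IsQuasisimple.not_isSolvable hJ.2 h3
  obtain rfl := cc_eq (cc_of_component hJ) (cc_quot l1) (map_le_iff_le_comap.2 l2)
  obtain ⟨e1⟩ := exists_quot_equiv l1.2.2.1
  have e2 := L.equivMapOfInjective _ M.subtype_injective
  refine hX.2 (L.map M.subtype) (mem_calL T hH hTM (map_subtype_le _)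
    (by rwa [subgroupOf, comap_map_eq_self_of_injective M.subtype_injective]))
    (H23.IsQuasisimple.of_mulEquiv (e1.symm.trans (QuotientGroup.congr _ _ e2 (H1.map_pCore_equiv e2))) hJ.2)
    (sup_le ?_ le_sup_right)
  rw [← Subgroup.map_sup, map_le_iff_le_comap, comap_map_eq, sup_assoc, sup_of_le_left hk] at e
  simpa only [map_subgroupOf_eq_of_le hXM, Subgroup.map_sup, map_subgroupOf_eq_of_le hTM] using
    map_mono (f := M.subtype) e

end H90.QT
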